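import Cfsg.Agent.Spor.Fi306936.T

set_option autoImplicit false
set_option maxRecDepth 100000000
set_option Elab.async false

namespace Cfsg.Agent.Spor.Fi306936

theorem ok0 : Net.okb 19 n0 = true := by decide +kernel

theorem ok1 : Net.okb 19 n1 = true := by decide +kernel

theorem ok2 : Net.okb 19 n2 = true := by decide +kernel

theorem ok3 : Net.okb 19 n3 = true := by decide +kernel

theorem ok4 : Net.okb 19 n4 = true := by decide +kernel

theorem ok5 : Net.okb 19 n5 = true := by decide +kernel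

theorem ok6 : Net.okb 19 n6 = true := by decide +kernel

theorem ok7 : Net.okb 19 n7 = true := by decide +kernel

theorem ok8 : Net.okb 19 n8 = true := by decide +kernel

theorem ok9 : Net.okb 19 n9 = true := by decide +kernel

theorem ok10 : Net.okb 19 n10 = true := by decide +kernel

theorem ok11 : Net.okb 19 n11 = true := by decide +kernel

theorem ok12 : Net.okb 19 n12 = true := by decide +kernel

theorem ok13 : Net.okb 19 n13 = true := by decide +kernel

theorem rel0 : T.rel 19 [1, 1] 0 19 = true := by decide +kernel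

theorem rel1 : T.rel 19 [2, 2] 0 19 = true := by decide +kernel

theorem rel2 : T.rel 19 [3, 3] 0 19 = true := by decide +kernel

theorem rel3 : T.rel 19 [4, 4] 0 19 = true := by decide +kernel

theorem rel4 : T.rel 19 [5, 5] 0 19 = true := by decide +kernel

theorem rel5 : T.rel 19 [6, 6] 0 19 = true := by decide +kernel

theorem rel6 : T.rel 19 [7, 7] 0 19 = true := by decide +kernel

theorem rel7 : T.rel 19 [8, 8] 0 19 = true := by decide +kernel

theorem rel8 : T.rel 19 [9, 9] 0 19 = true := by decide +kernel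

theorem rel9 : T.rel 19 [10, 10] 0 19 = true := by decide +kernel

theorem rel10 : T.rel 19 [11, 11] 0 19 = true := by decide +kernel

theorem rel11 : T.rel 19 [12, 12] 0 19 = true := by decide +kernel

theorem rel12_0 : T.rel 19 [13, 1, 2, 3, 4, 5, 6, 8] 0 10 = true := by decide +kernel

theorem rel12_10 : T.rel 19 [13, 1, 2, 3, 4, 5, 6, 8] 10 9 = true := by decide +kernel

theorem rel13_0 : T.rel 19 [15, 4, 3, 2, 1, 12, 11, 4, 5, 6, 7, 10, 4, 8, 9] 0 5 = true := by decide +kernel

theorem rel13_5 : T.rel 19 [15, 4, 3, 2, 1, 12, 11, 4, 5, 6, 7, 10, 4, 8, 9] 5 5 = true := by decide +kernel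

theorem rel13_10 : T.rel 19 [15, 4, 3, 2, 1, 12, 11, 4, 5, 6, 7, 10, 4, 8, 9] 10 5 = true := by decide +kernel

theorem rel13_15 : T.rel 19 [15, 4, 3, 2, 1, 12, 11, 4, 5, 6, 7, 10, 4, 8, 9] 15 4 = true := by decide +kernel

theorem rel14_0 : T.rel 19 [2, 1, 2, 1, 2, 1] 0 13 = true := by decide +kernel

theorem rel14_13 : T.rel 19 [2, 1, 2, 1, 2, 1] 13 6 = true := by decide +kernel

theorem rel15 : T.rel 19 [3, 1, 3, 1] 0 19 = true := by decide +kernel

theorem rel16 : T.rel 19 [4, 1, 4, 1] 0 19 = true := by decide +kernel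

theorem rel17 : T.rel 19 [5, 1, 5, 1] 0 19 = true := by decide +kernel

theorem rel18 : T.rel 19 [6, 1, 6, 1] 0 19 = true := by decide +kernel

theorem rel19 : T.rel 19 [7, 1, 7, 1] 0 19 = true := by decide +kernel

theorem rel20 : T.rel 19 [8, 1, 8, 1] 0 19 = true := by decide +kernel

theorem rel21 : T.rel 19 [9, 1, 9, 1] 0 19 = true := by decide +kernel

theorem rel22 : T.rel 19 [10, 1, 10, 1] 0 19 = true := by decide +kernel

theorem rel23 : T.rel 19 [11, 1, 11, 1] 0 19 = true := by decide +kernel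

theorem rel24_0 : T.rel 19 [12, 1, 12, 1, 12, 1] 0 13 = true := by decide +kernel

theorem rel24_13 : T.rel 19 [12, 1, 12, 1, 12, 1] 13 6 = true := by decide +kernel

theorem rel25_0 : T.rel 19 [3, 2, 3, 2, 3, 2] 0 13 = true := by decide +kernel

theorem rel25_13 : T.rel 19 [3, 2, 3, 2, 3, 2] 13 6 = true := by decide +kernel

theorem rel26 : T.rel 19 [4, 2, 4, 2] 0 19 = true := by decide +kernel

theorem rel27 : T.rel 19 [5, 2, 5, 2] 0 19 = true := by decide +kernel

theorem rel28 : T.rel 19 [6, 2, 6, 2] 0 19 = true := by decide +kernel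

theorem rel29 : T.rel 19 [7, 2, 7, 2] 0 19 = true := by decide +kernel

theorem rel30 : T.rel 19 [8, 2, 8, 2] 0 19 = true := by decide +kernel

theorem rel31 : T.rel 19 [9, 2, 9, 2] 0 19 = true := by decide +kernel

theorem rel32 : T.rel 19 [10, 2, 10, 2] 0 19 = true := by decide +kernel

theorem rel33 : T.rel 19 [11, 2, 11, 2] 0 19 = true := by decide +kernel

theorem rel34 : T.rel 19 [12, 2, 12, 2] 0 19 = true := by decide +kernel

theorem rel35_0 : T.rel 19 [4, 3, 4, 3, 4, 3] 0 13 = true := by decide +kernel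

theorem rel35_13 : T.rel 19 [4, 3, 4, 3, 4, 3] 13 6 = true := by decide +kernel

theorem rel36 : T.rel 19 [5, 3, 5, 3] 0 19 = true := by decide +kernel

theorem rel37 : T.rel 19 [6, 3, 6, 3] 0 19 = true := by decide +kernel

theorem rel38 : T.rel 19 [7, 3, 7, 3] 0 19 = true := by decide +kernel

theorem rel39 : T.rel 19 [8, 3, 8, 3] 0 19 = true := by decide +kernel

theorem rel40 : T.rel 19 [9, 3, 9, 3] 0 19 = true := by decide +kernel

theorem rel41 : T.rel 19 [10, 3, 10, 3] 0 19 = true := by decide +kernel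

theorem rel42 : T.rel 19 [11, 3, 11, 3] 0 19 = true := by decide +kernel

theorem rel43 : T.rel 19 [12, 3, 12, 3] 0 19 = true := by decide +kernel

theorem rel44_0 : T.rel 19 [5, 4, 5, 4, 5, 4] 0 13 = true := by decide +kernel

theorem rel44_13 : T.rel 19 [5, 4, 5, 4, 5, 4] 13 6 = true := by decide +kernel

theorem rel45 : T.rel 19 [6, 4, 6, 4] 0 19 = true := by decide +kernel

theorem rel46 : T.rel 19 [7, 4, 7, 4] 0 19 = true := by decide +kernel

theorem rel47_0 : T.rel 19 [8, 4, 8, 4, 8, 4] 0 13 = true := by decide +kernel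

theorem rel47_13 : T.rel 19 [8, 4, 8, 4, 8, 4] 13 6 = true := by decide +kernel

theorem rel48 : T.rel 19 [9, 4, 9, 4] 0 19 = true := by decide +kernel

theorem rel49 : T.rel 19 [10, 4, 10, 4] 0 19 = true := by decide +kernel

theorem rel50 : T.rel 19 [11, 4, 11, 4] 0 19 = true := by decide +kernel

theorem rel51 : T.rel 19 [12, 4, 12, 4] 0 19 = true := by decide +kernel

theorem rel52_0 : T.rel 19 [6, 5, 6, 5, 6, 5] 0 13 = true := by decide +kernel

theorem rel52_13 : T.rel 19 [6, 5, 6, 5, 6, 5] 13 6 = true := by decide +kernel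

theorem rel53 : T.rel 19 [7, 5, 7, 5] 0 19 = true := by decide +kernel

theorem rel54 : T.rel 19 [8, 5, 8, 5] 0 19 = true := by decide +kernel

theorem rel55 : T.rel 19 [9, 5, 9, 5] 0 19 = true := by decide +kernel

theorem rel56 : T.rel 19 [10, 5, 10, 5] 0 19 = true := by decide +kernel

theorem rel57 : T.rel 19 [11, 5, 11, 5] 0 19 = true := by decide +kernel

theorem rel58 : T.rel 19 [12, 5, 12, 5] 0 19 = true := by decide +kernel

theorem rel59_0 : T.rel 19 [7, 6, 7, 6, 7, 6] 0 13 = true := by decide +kernel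

theorem rel59_13 : T.rel 19 [7, 6, 7, 6, 7, 6] 13 6 = true := by decide +kernel

theorem rel60 : T.rel 19 [8, 6, 8, 6] 0 19 = true := by decide +kernel

theorem rel61 : T.rel 19 [9, 6, 9, 6] 0 19 = true := by decide +kernel

theorem rel62 : T.rel 19 [10, 6, 10, 6] 0 19 = true := by decide +kernel

theorem rel63 : T.rel 19 [11, 6, 11, 6] 0 19 = true := by decide +kernel

theorem rel64 : T.rel 19 [12, 6, 12, 6] 0 19 = true := by decide +kernel

theorem rel65 : T.rel 19 [8, 7, 8, 7] 0 19 = true := by decide +kernel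

theorem rel66 : T.rel 19 [9, 7, 9, 7] 0 19 = true := by decide +kernel

theorem rel67_0 : T.rel 19 [10, 7, 10, 7, 10, 7] 0 13 = true := by decide +kernel

theorem rel67_13 : T.rel 19 [10, 7, 10, 7, 10, 7] 13 6 = true := by decide +kernel

theorem rel68 : T.rel 19 [11, 7, 11, 7] 0 19 = true := by decide +kernel

theorem rel69 : T.rel 19 [12, 7, 12, 7] 0 19 = true := by decide +kernel

theorem rel70_0 : T.rel 19 [9, 8, 9, 8, 9, 8] 0 13 = true := by decide +kernel

theorem rel70_13 : T.rel 19 [9, 8, 9, 8, 9, 8] 13 6 = true := by decide +kernel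

theorem rel71 : T.rel 19 [10, 8, 10, 8] 0 19 = true := by decide +kernel

theorem rel72 : T.rel 19 [11, 8, 11, 8] 0 19 = true := by decide +kernel

theorem rel73 : T.rel 19 [12, 8, 12, 8] 0 19 = true := by decide +kernel

theorem rel74 : T.rel 19 [10, 9, 10, 9] 0 19 = true := by decide +kernel

theorem rel75 : T.rel 19 [11, 9, 11, 9] 0 19 = true := by decide +kernel

theorem rel76 : T.rel 19 [12, 9, 12, 9] 0 19 = true := by decide +kernel

theorem rel77 : T.rel 19 [11, 10, 11, 10] 0 19 = true := by decide +kernel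

theorem rel78 : T.rel 19 [12, 10, 12, 10] 0 19 = true := by decide +kernel

theorem rel79_0 : T.rel 19 [12, 11, 12, 11, 12, 11] 0 13 = true := by decide +kernel

theorem rel79_13 : T.rel 19 [12, 11, 12, 11, 12, 11] 13 6 = true := by decide +kernel

theorem rel80_0 : T.rel 19 [14, 14, 14, 14, 14, 14, 14, 14, 14, 11] 0 8 = true := by decide +kernel

theorem rel80_8 : T.rel 19 [14, 14, 14, 14, 14, 14, 14, 14, 14, 11] 8 8 = true := by decide +kernel

theorem rel80_16 : T.rel 19 [14, 14, 14, 14, 14, 14, 14, 14, 14, 11] 16 3 = true := by decide +kernel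

theorem rel81_0 : T.rel 19 [15, 15, 15, 15, 15, 15, 15, 15, 15, 15, 15, 15, 15, 15, 15, 15, 15] 0 4 = true := by decide +kernel

theorem rel81_4 : T.rel 19 [15, 15, 15, 15, 15, 15, 15, 15, 15, 15, 15, 15, 15, 15, 15, 15, 15] 4 4 = true := by decide +kernel

theorem rel81_8 : T.rel 19 [15, 15, 15, 15, 15, 15, 15, 15, 15, 15, 15, 15, 15, 15, 15, 15, 15] 8 4 = true := by decide +kernel

theorem rel81_12 : T.rel 19 [15, 15, 15, 15, 15, 15, 15, 15, 15, 15, 15, 15, 15, 15, 15, 15, 15] 12 4 = true := by decide +kernel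

theorem rel81_16 : T.rel 19 [15, 15, 15, 15, 15, 15, 15, 15, 15, 15, 15, 15, 15, 15, 15, 15, 15] 16 3 = true := by decide +kernel

theorem hcov : T.treeCov (ones 306936) L 1 = true := by decide +kernel

theorem hg : lall (fun z => band (memL L z) (band (sub (ones 306936) (T.let z).cl) (T.closed (ones 306936) z))) gs = true := by decide +kernel

theorem hivk : ivOk (2 * 12) EX IV = true := by decide +kernel

theorem hrt : RT.ok (2 * 12) EX RL = true := by decide +kernel

theorem hdefs : defs F 447 = true := by decide +kernel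

noncomputable def st0_l : List Nat := [nat_lit 0x3ff, nat_lit 0x3ff, nat_lit 0x3ff, nat_lit 0x3ff, nat_lit 0x3ff, nat_lit 0x3ff, nat_lit 0x3ff, nat_lit 0x3ff, nat_lit 0x1c080000403, nat_lit 0x1c180000403, nat_lit 0x1c280000403, nat_lit 0x1c380000403, nat_lit 0x1c480000403, nat_lit 0x1c580000403, nat_lit 0x1c680000403, nat_lit 0x8000000037f0000080000c05, nat_lit 0x2001c880000c03, nat_lit 0x2001c980000c03, nat_lit 0x2001ca80000c03, nat_lit 0x2001cb80000c03, nat_lit 0x2001cc80000c03, nat_lit 0x2001cd80000c03, nat_lit 0x10000040038f0000180001405, nat_lit 0x2001c7800e440072600395001cb800e6407, nat_lit 0x120000700002800010000060000200000807, nat_lit 0x4001d080001403, nat_lit 0x4001d180001403, nat_lit 0x4001d280001403, nat_lit 0x4001d380001403, nat_lit 0x4001d480001403, nat_lit 0x4001ce80001403, nat_lit 0x18000080039f0000280001c05, nat_lit 0x3aa00002000e7c00742003a3001d2800e9c07, nat_lit 0x6001d580001c03, nat_lit 0x6001d980001c03, nat_lit 0x6001da80001c03, nat_lit 0x6001db80001c03,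 nat_lit 0x6001dc80001c03, nat_lit 0x6001dd80001c03, nat_lit 0x200000c003b10000380002405, nat_lit 0x3c0001de00001800762003b3001da800edc07, nat_lit 0x8001e080002403, nat_lit 0x8001de80002403, nat_lit 0x8001e280002403, nat_lit 0x8001e480002403, nat_lit 0x8001e580002403, nat_lit 0x2800010003c30000480002c05, nat_lit 0x3000010003c70000480003405, nat_lit 0x3d0001e9000f3000010003c3001e2800f1c07, nat_lit 0xa001e880002c03, nat_lit 0xa001e980002c03, nat_lit 0xa001e680002c03, nat_lit 0x100000500003403, nat_lit 0xa001eb80002c03, nat_lit 0xa001ec80002c03, nat_lit 0x3800014003d50000580003c05, nat_lit 0xc001ea80003403, nat_lit 0x420001500007000028003e7001f700003007, nat_lit 0xe001f080003c03, nat_lit 0xe001f180003c03, nat_lit 0xe001f280003c03, nat_lit 0xe001ed80003c03, nat_lit 0x120000700004403, nat_lit 0xe001f480003c03, nat_lit 0xe001f580003c03, nat_lit 0x10001f080004403, nat_lit 0x10001f180004403, nat_lit 0x10001f280004403, nat_lit 0x5000020003db0000880005405, nat_lit 0x5800020003e90000880005c05,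 nat_lit 0x12001f980004c03, nat_lit 0x12001fa80004c03, nat_lit 0x12001fb80004c03, nat_lit 0x12001f680004c03, nat_lit 0x12001ff80004c03, nat_lit 0x6000024003f90000980006405, nat_lit 0x6800024003fd0000980006c05, nat_lit 0x140020080005403, nat_lit 0x140020180005403, nat_lit 0x14001fd00006403, nat_lit 0x1e0000a00005c03, nat_lit 0x7000028004050000a80007405, nat_lit 0x50007ce003dd001f300005405, nat_lit 0x160020180005c03, nat_lit 0x160020280005c03, nat_lit 0x16001fd00006c03, nat_lit 0x180020580006403, nat_lit 0x180020680006403, nat_lit 0x260000c00006c03, nat_lit 0x180020980006403, nat_lit 0x88000300040f0000c80008c05, nat_lit 0x9000030004110000c80009405, nat_lit 0x1a0020880006c03, nat_lit 0x1c0020c80007403, nat_lit 0x1c0021180007403, nat_lit 0x1c0020e80008c03, nat_lit 0x1c0020380007403, nat_lit 0x2c0000e00007c03, nat_lit 0xa8000380041b0000e8000ac05, nat_lit 0x1e0021180007c03, nat_lit 0x1e0020e80009c03, nat_lit 0x200021280008403, nat_lit 0x200021380008403, nat_lit 0x200020f0000c403,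 nat_lit 0x20002148000a403, nat_lit 0x200020480008403, nat_lit 0x220021580008c03, nat_lit 0x360001100009403, nat_lit 0x220020a80008c03, nat_lit 0x380001100009c03, nat_lit 0x220021880008c03, nat_lit 0xd0000440042d000118000d405, nat_lit 0x240021580009403, nat_lit 0x240021680009403, nat_lit 0x240020a80009403, nat_lit 0x3a0001200009c03, nat_lit 0x9000838004230020e80009405, nat_lit 0x46200233000090000300040f0020680102c07, nat_lit 0x28002170000fc03, nat_lit 0x280021b8000a403, nat_lit 0x2a002108000ac03, nat_lit 0x2a0021d8000ac03, nat_lit 0x2a0021e8000d403, nat_lit 0x2a0021f8000ac03, nat_lit 0x44000150000b403, nat_lit 0x2c0021d8000b403, nat_lit 0x2c0021e8000e403, nat_lit 0x2e0022000011c03, nat_lit 0xb80083e004090020f0000bc05, nat_lit 0x30002228000c403, nat_lit 0x30002238000fc03, nat_lit 0x32002248000cc03, nat_lit 0x32002258000cc03, nat_lit 0x320022680012403, nat_lit 0x320022780010403, nat_lit 0x32002288000cc03, nat_lit 0x34002198000d403, nat_lit 0x4e0001a0000dc03, nat_lit 0x340022b8000d403,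 nat_lit 0x500001a0000e403, nat_lit 0x340022d8000d403, nat_lit 0x13000068004530001a80013405, nat_lit 0x36002298000dc03, nat_lit 0x360022b8000dc03, nat_lit 0x540001b0000e403, nat_lit 0x1480006c004330001b80014c05, nat_lit 0xd8008780043b0021e8000dc05, nat_lit 0x3a002308000ec03, nat_lit 0x3a0022a00015403, nat_lit 0x3a002338000ec03, nat_lit 0x3c0022c00015c03, nat_lit 0x3c0023200016c03, nat_lit 0x5e0001e0000fc03, nat_lit 0xf00085e00417002170000f405, nat_lit 0x3e0022c00016403, nat_lit 0x400023580018403, nat_lit 0x400023680010403, nat_lit 0x420022180010c03, nat_lit 0x420023780010c03, nat_lit 0x420023880010c03, nat_lit 0x420023980013403, nat_lit 0x420023a80010c03, nat_lit 0x640002100011403, nat_lit 0x440023780011403, nat_lit 0x440023880011403, nat_lit 0x440023980014403, nat_lit 0x460023b00019c03, nat_lit 0x460023c80011c03, nat_lit 0x460023d80015c03, nat_lit 0x480024080012403, nat_lit 0x480024180018403, nat_lit 0x4a0024580018c03, nat_lit 0x4a0024680012c03, nat_lit 0x4c0022e80013403,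 nat_lit 0x4c0024780013403, nat_lit 0x6c0002600013c03, nat_lit 0x4c0024980013403, nat_lit 0x6e0002600014403, nat_lit 0x4e0022e80013c03, nat_lit 0x4e0024980013c03, nat_lit 0x720002700014403, nat_lit 0x4e0024b80013c03, nat_lit 0x1c00009c0048f000278001c405, nat_lit 0x138008e4004710023980013c05, nat_lit 0x4e4002760001380091e0045d0001a00114c07, nat_lit 0x520024d80014c03, nat_lit 0x52002480001c403, nat_lit 0x520025180014c03, nat_lit 0x7c0002900015403, nat_lit 0x148008aa004350022a00014c05, nat_lit 0x1e8000a40049d000298001ec05, nat_lit 0x7a0027a001280000a4004550023080117c07, nat_lit 0x54002480001cc03, nat_lit 0x540025180015403, nat_lit 0x560024a0001dc03, nat_lit 0x840002b00016403, nat_lit 0x580024f00020c03, nat_lit 0x5a0025380020403, nat_lit 0x5a0025480016c03, nat_lit 0x8a0002d00017403, nat_lit 0x5c0025280017403, nat_lit 0x5c0025380020c03, nat_lit 0x5e0025580021403, nat_lit 0x5e0025880017c03, nat_lit 0x5e0025680022c03, nat_lit 0x600025980021c03, nat_lit 0x600025700023c03, nat_lit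 0x620025a80024403, nat_lit 0x620025b80018c03, nat_lit 0x640025c80019403, nat_lit 0x640025d80019403, nat_lit 0x640025f8001bc03, nat_lit 0x660026100024c03, nat_lit 0x660026380019c03, nat_lit 0x66002648001dc03, nat_lit 0x250000cc004c50003380025405, nat_lit 0x680026580025403, nat_lit 0x96000340001ac03, nat_lit 0x1a0008f80047f0023e8001a405, nat_lit 0x6a002668001ac03, nat_lit 0x6a0026780021403, nat_lit 0x6c0024c8001b403, nat_lit 0x6c0026c8001b403, nat_lit 0x6c0026f8001b403, nat_lit 0x9c000360001bc03, nat_lit 0x268000d8004db0003680026c05, nat_lit 0x1b00097c004bd0025f8001b405, nat_lit 0x53c002a10001b0009b6004d90024c80013007, nat_lit 0x700026e00026c03, nat_lit 0x70002768001c403, nat_lit 0xa4000380001cc03, nat_lit 0xa6000380001d403, nat_lit 0x70002748001c403, nat_lit 0x280000e0004e30003880028405, nat_lit 0x720026e00027403, nat_lit 0xaa000390001d403, nat_lit 0x760027000027c03, nat_lit 0x76002730002a403, nat_lit 0xb00003b0001e403, nat_lit 0x78002730002ac03, nat_lit 0x7a002788001ec03,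 nat_lit 0x7a0027980028c03, nat_lit 0x7a0027c8001ec03, nat_lit 0x7a002508001ec03, nat_lit 0x7a0027a8001ec03, nat_lit 0xb60003d0001fc03, nat_lit 0x7c002788001f403, nat_lit 0x7c0027980029403, nat_lit 0x7c002508001f403, nat_lit 0x7c0027a8001f403, nat_lit 0x7e0027980029c03, nat_lit 0x800027f8002a403, nat_lit 0x800028080020403, nat_lit 0x2f800100004f60005c80040c05, nat_lit 0x820027f8002ac03, nat_lit 0x820027b0002ec03, nat_lit 0x84002818002c403, nat_lit 0x860028380030403, nat_lit 0x860028200030c03, nat_lit 0x31800110005090005f80042405, nat_lit 0x22000958004b10025680022405, nat_lit 0x8a0028580022c03, nat_lit 0x8c0028780023403, nat_lit 0x8c0028880030403, nat_lit 0x8c0028600032403, nat_lit 0x8e0028980030c03, nat_lit 0x8e0028a80023c03, nat_lit 0x8e0028b80032403, nat_lit 0x900028c80031403, nat_lit 0x920029080024c03, nat_lit 0x920029280027c03, nat_lit 0x33800124005230004980033c05, nat_lit 0x940029380033c03, nat_lit 0x94002958002bc03, nat_lit 0x34800128005290004a80034c05, nat_lit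 0x960029780035403, nat_lit 0x960029980025c03, nat_lit 0x980029800035c03, nat_lit 0x980029a80026403, nat_lit 0x980029b80030c03, nat_lit 0x9a0029c80026c03, nat_lit 0x9a002a180026c03, nat_lit 0xdc0004d00027403, nat_lit 0x368001340053d0004d80036c05, nat_lit 0xda002d8001500001340053b0029c80137407, nat_lit 0x9c0029c80027403, nat_lit 0x9c0029d80027403, nat_lit 0x9e0029f00038c03, nat_lit 0xa0002a380036403, nat_lit 0xa00027580028403, nat_lit 0xa0002a480028403, nat_lit 0xe60005000029403, nat_lit 0xa0002a780028403, nat_lit 0xa2002a380036c03, nat_lit 0xa2002a780028c03, nat_lit 0x4d8001d0000a2000528003ac05, nat_lit 0xec0005200029c03, nat_lit 0xa6002a380037c03, nat_lit 0xa8002a980038c03, nat_lit 0x3c0001500054a000758004e405, nat_lit 0xac002a60003bc03, nat_lit 0xac002aa0003cc03, nat_lit 0xae002ab80039403, nat_lit 0xf8000570002c403, nat_lit 0x3d80015c005590007880050405, nat_lit 0xb2002ae8003cc03, nat_lit 0xb2002ad0003ec03, nat_lit 0xb4002af8002d403, nat_lit 0xb4002b08003a403, nat_lit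 0xb4002b18002d403, nat_lit 0xb40027d8002d403, nat_lit 0xfe0005a0002dc03, nat_lit 0xb6002af8002dc03, nat_lit 0x2d8009fa00469001d7800eb00077c003ce001ef000fc009, nat_lit 0xb8002b68003ac03, nat_lit 0xb8002b78002e403, nat_lit 0xb8002b88002e403, nat_lit 0x1040005c0002ec03, nat_lit 0x1c2000c400053800204005f4002fb0002e007, nat_lit 0xba002b78002ec03, nat_lit 0xba002b88002ec03, nat_lit 0xbc002b98003bc03, nat_lit 0xbc002b400040403, nat_lit 0xbe002ba8003c403, nat_lit 0xbe002bb8002fc03, nat_lit 0xc0002bd8003cc03, nat_lit 0xc0002be80041c03, nat_lit 0xc2002bf8003ec03, nat_lit 0xc4002c080042c03, nat_lit 0xc6002c380031c03, nat_lit 0xc8002c480032403, nat_lit 0xca002c680042c03, nat_lit 0xca002c780044403, nat_lit 0x448001940058b0006580044c05, nat_lit 0xcc002c880043403, nat_lit 0xcc002c980033403, nat_lit 0xcc002ca80044403, nat_lit 0xce002cd80039403, nat_lit 0x4580019c005990006780045c05, nat_lit 0xd0002cf80045c03, nat_lit 0xd0002d08003d403, nat_lit 0xd00029680034403, nat_lit 0x34000a5c005330029780034405,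 nat_lit 0xd2002cf80046403, nat_lit 0x478001a4005a10007b80051405, nat_lit 0xd4002cf80046c03, nat_lit 0xd4002d08003e403, nat_lit 0xd40029680035403, nat_lit 0xd6002d280048403, nat_lit 0xd6002d380035c03, nat_lit 0x1240006c00038403, nat_lit 0xd80004d0001b00097c004c1002f80017bc07, nat_lit 0xda002d780036c03, nat_lit 0x1280006d00038403, nat_lit 0x5780024c000da0006e8004ac05, nat_lit 0xdc002a080037403, nat_lit 0xdc002d880037403, nat_lit 0xe2002dc80038c03, nat_lit 0xe2002dd80038c03, nat_lit 0x4b0001c4005b20009580058c05, nat_lit 0x4c0001c8005bd0009680059c05, nat_lit 0xe6002df80048c03, nat_lit 0xe6002a880039c03, nat_lit 0xe6002e080039c03, nat_lit 0xe6002e180039c03, nat_lit 0xe6002e380039c03, nat_lit 0xe8002e480049c03, nat_lit 0xe8002e58003a403, nat_lit 0xea002e20004d403, nat_lit 0x13a000750003b403, nat_lit 0xee002e70004f403, nat_lit 0xf0002e98004b403, nat_lit 0x1420007a0003dc03, nat_lit 0xf6002ed8004c403, nat_lit 0x1460007b0003e403, nat_lit 0xfa002ee00052403, nat_lit 0xfc002f28003f403,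 nat_lit 0xfc002f38004dc03, nat_lit 0xfc002f48003f403, nat_lit 0x14c0007e0003fc03, nat_lit 0x528001f8005eb0007e80052c05, nat_lit 0x1000031e00049403, nat_lit 0x104002f98004ec03, nat_lit 0x106002fe80041c03, nat_lit 0x106002ff80041c03, nat_lit 0x106002fc00054403, nat_lit 0x1080030380042403, nat_lit 0x108002bc80053c03, nat_lit 0x55000210006050009f8005dc05, nat_lit 0x10a0030580054c03, nat_lit 0x10e002c280055403, nat_lit 0x10e0030880043c03, nat_lit 0x1100030980044403, nat_lit 0x1120030b80056403, nat_lit 0x1140030e80045403, nat_lit 0x1140030f80056403, nat_lit 0x116003108004bc03, nat_lit 0x15a0008c00047403, nat_lit 0x11a003108004cc03, nat_lit 0x11a002ce80046c03, nat_lit 0x1200031980052403, nat_lit 0x1200031a80048403, nat_lit 0x1220031e8017b003, nat_lit 0x1260031f80049c03, nat_lit 0x126002da80049c03, nat_lit 0x160000930004a403, nat_lit 0x12a003228004ac03, nat_lit 0x12a003238004ac03, nat_lit 0x12c003248004b403, nat_lit 0x590002580064b0009680059405, nat_lit 0x168000970004c403,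 nat_lit 0x16c000980004cc03, nat_lit 0x1340032880057403, nat_lit 0x1340032c8004d403, nat_lit 0x1340032b80195400ca6005c5002b60015ac07, nat_lit 0x1360032d80057c03, nat_lit 0x1360032e8004dc03, nat_lit 0x138002e60005c403, nat_lit 0x5c8002700065f000b780068c05, nat_lit 0x13c003300005d403, nat_lit 0x13e0033280059403, nat_lit 0x1780009f00050403, nat_lit 0x13e002ea8005cc03, nat_lit 0x144003348005ac03, nat_lit 0x144002ef8005ec03, nat_lit 0x146002ef8005f403, nat_lit 0x1480033500060403, nat_lit 0x14a0033780052c03, nat_lit 0x14a003388005c403, nat_lit 0x186000a500053403, nat_lit 0x14c0033980053403, nat_lit 0x1500033d8005d403, nat_lit 0x1520033e80054c03, nat_lit 0x1520033f80054c03, nat_lit 0x1520034080062c03, nat_lit 0x1540034180055403, nat_lit 0x1540034280062403, nat_lit 0x1560034580063403, nat_lit 0x1560034680055c03, nat_lit 0x1580034780056403, nat_lit 0x15c003518019d003, nat_lit 0x15e0035280057c03, nat_lit 0x192000af00058403, nat_lit 0x640002bc006a7000af80064405, nat_lit 0x1620035680058c03,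 nat_lit 0x1620032100064403, nat_lit 0x658002c4006ab000b180065c05, nat_lit 0x19a000b200059c03, nat_lit 0x1640032680065403, nat_lit 0x660002c8006af000b280066405, nat_lit 0x16a0032780067403, nat_lit 0x16c0032780067c03, nat_lit 0x16e0035b80063c03, nat_lit 0x16e0035c8005bc03, nat_lit 0x1700035e80064403, nat_lit 0x1700035f8005c403, nat_lit 0x1720036080069c03, nat_lit 0x1b0000bb0005e403, nat_lit 0x176003658006ac03, nat_lit 0x6b8002ec006c7000cc80075405, nat_lit 0x178003658006b403, nat_lit 0x17a003640006d403, nat_lit 0x17c003640006dc03, nat_lit 0x5f800cce005df003640006cc05, nat_lit 0x180003688006e403, nat_lit 0x1bc000c100061c03, nat_lit 0x6e800304006d7000d380078c05, nat_lit 0x1840036a80061403, nat_lit 0x1840036b8006a403, nat_lit 0x1840033b80061403, nat_lit 0x1c0000c200061c03, nat_lit 0x18c003438006bc03, nat_lit 0x18c0037280063403, nat_lit 0x18c0037380070c03, nat_lit 0x18e00377801b6003, nat_lit 0x1900037880064403, nat_lit 0x1ce000c800064c03, nat_lit 0x1d2000ca00065c03, nat_lit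 0x1940037b80065403, nat_lit 0x1940037c80072c03, nat_lit 0x1980035880066403, nat_lit 0x1d6000cc00066c03, nat_lit 0x1980037f80074403, nat_lit 0x19a0037f80074c03, nat_lit 0x19c0037e00076c03, nat_lit 0x19e0037e00077403, nat_lit 0x68000d660064f0037e00076405, nat_lit 0x1a20038380071c03, nat_lit 0x1a40038380072403, nat_lit 0x1a40038480069403, nat_lit 0x1a80038580073403, nat_lit 0x1a8003868006a403, nat_lit 0x1ac0038780079403, nat_lit 0x7b000358006c3000ef80086405, nat_lit 0x1f0000d70006c403, nat_lit 0x1ae003898007a403, nat_lit 0x1b0003898007ac03, nat_lit 0x7d00036400717000f680088c05, nat_lit 0x1b40038b8007bc03, nat_lit 0x1b6003880007cc03, nat_lit 0x1b80038d8007dc03, nat_lit 0x1f8000dd0006f403, nat_lit 0x1be003928006fc03, nat_lit 0x1be0039380079c03, nat_lit 0x1be003948006fc03, nat_lit 0x1fa000df00070403, nat_lit 0x1c4003968007c403, nat_lit 0x71000dd0006eb0037480071405, nat_lit 0x1fe000e300072403, nat_lit 0x7f00038c0073300390001da005, nat_lit 0x1c800399801ca803, nat_lit 0x202000e500073403,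 nat_lit 0x1cc0039a80073403, nat_lit 0x1cc0037a80073403, nat_lit 0x206000e600073c03, nat_lit 0x20a000e800074c03, nat_lit 0x1d00039d80074403, nat_lit 0x1d20039e80080c03, nat_lit 0x1d40038080075403, nat_lit 0x210000ea00075c03, nat_lit 0x1d4003a180082403, nat_lit 0x1d6003a180082c03, nat_lit 0x848003ac0073f000eb80084c05, nat_lit 0x1d8003a000084c03, nat_lit 0x1da003a000085403, nat_lit 0x1da003a280083c03, nat_lit 0x1dc003a000085c03, nat_lit 0x1de003a68007fc03, nat_lit 0x1e0003a780080403, nat_lit 0x1e0003a880078403, nat_lit 0x1e6003a980081403, nat_lit 0x1e6003aa80079c03, nat_lit 0x220000f60007bc03, nat_lit 0x1ec003ab80086c03, nat_lit 0x1f00038a80084403, nat_lit 0x1f0003ae80087403, nat_lit 0x1f2003ad00089403, nat_lit 0x1f2003af80087c03, nat_lit 0x1f6003b280089c03, nat_lit 0x779000fc001c8c03, nat_lit 0x1fa003b58007ec03, nat_lit 0x1fa003b78007ec03, nat_lit 0x1e3003da0007f003, nat_lit 0x1fe003dd00079403, nat_lit 0x200003bd801dc003, nat_lit 0x200003bb0008ac03, nat_lit 0x204003bf80081403,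 nat_lit 0x204003be0008bc03, nat_lit 0x204003c080081403, nat_lit 0x2300010200081c03, nat_lit 0x2320010400082c03, nat_lit 0x8d80041400787001058008dc05, nat_lit 0x20c003c20008d403, nat_lit 0x2380010600083c03, nat_lit 0x20c003c48008b403, nat_lit 0x83000e72006fb0039c00083405, nat_lit 0x210003c580084403, nat_lit 0x210003c78008cc03, nat_lit 0x8f800424007910011a80097405, nat_lit 0x214003c60008ec03, nat_lit 0x216003c60008f403, nat_lit 0x218003ce8008a403, nat_lit 0x21a003de0008a403, nat_lit 0x220003d480091403, nat_lit 0x222003ac80090c03, nat_lit 0x224003d58008f403, nat_lit 0x224003d680091c03, nat_lit 0x226003d880092403, nat_lit 0x24e001140008ac03, nat_lit 0x250001160008bc03, nat_lit 0x230003e18008c403, nat_lit 0x230003e280094c03, nat_lit 0x230003e38008c403, nat_lit 0x8c000f44007a5003d18008c405, nat_lit 0x234003e500095403, nat_lit 0x25a0011a0008dc03, nat_lit 0x238003e980094403, nat_lit 0x23a003ec80095c03, nat_lit 0x23c003eb8008f403, nat_lit 0x23e003c98008fc03, nat_lit 0x240003f080093c03,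 nat_lit 0x2620012000090c03, nat_lit 0x244003f180093c03, nat_lit 0x24a003f480097c03, nat_lit 0x24a003f580099403, nat_lit 0x24c003f680099c03, nat_lit 0x24c003d9001d9800e3c006d20034f001a8407, nat_lit 0x252003f80009b403, nat_lit 0x2700012a00095c03, nat_lit 0x258003fd8009bc03, nat_lit 0x2720012c00096c03, nat_lit 0x2740012c00097403, nat_lit 0x96000f9c007d5003e780096405, nat_lit 0x25e0040180097c03, nat_lit 0x260004038009ac03, nat_lit 0x268004078009dc03, nat_lit 0x278001370009c403, nat_lit 0x2720040c8009e403, nat_lit 0x2720040f8009cc03, nat_lit 0x2740040f8009d403, nat_lit 0x4dd0024880115400868000240020e00101807, nat_lit 0x4180020d800074008420043b0021e80115c07, nat_lit 0x4380001580110c008de004710023980124c07, nat_lit 0x546002790013e0000a4000360021e0010fc07, nat_lit 0x4a0024200121c00912004d10026980146c07, nat_lit 0x5c8002b0001588009f400565002b38001e807, nat_lit 0x3780106a00833002a20020bc01062004ee002db0020e409, nat_lit 0x83b002780013cc0014200550002e080170c07, nat_lit 0x83d002e30020f003,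 nat_lit 0x3b800ba20083e002e80003bc05, nat_lit 0x5d70042000175803, nat_lit 0x5d80042180176403, nat_lit 0x5e10042200178003, nat_lit 0x5e20042380178c03, nat_lit 0x600003018019e403, nat_lit 0x42800c12008440030400042c05, nat_lit 0x43000c1a008480030600043405, nat_lit 0x60f0042600183803, nat_lit 0x6e200370001b7800d10006140008980186407, nat_lit 0x45000c360084e0030d00045405, nat_lit 0x6410031d00212803, nat_lit 0x6620042b001aa003, nat_lit 0x66c004248019b403, nat_lit 0xcd0008a80215000d240069500376001a4007, nat_lit 0x7de003cd001d2000e08006b50034d001a7407, nat_lit 0x69f0042d001a7803, nat_lit 0x7b8003b8801cac00db2006da00377001ad807, nat_lit 0x6c40042c801bc803, nat_lit 0x7f6003e4801e0c00e6e008640036e00062c07, nat_lit 0x78c003d5001dc800ee8001c400397001cc407, nat_lit 0x76c000fd801ef803, nat_lit 0x8280041500206c00ffa007cc0011b001e4007, nat_lit 0x7a200435801e7803, nat_lit 0x8c0010de007a0004370008c405, nat_lit 0xc50042800165800a380051f0026a00135c07, nat_lit 0x18c00024200860000900018c405,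 nat_lit 0x8600031b0018e400b50005ab002d680160807, nat_lit 0x47000236008740008d00047405, nat_lit 0x6990043c001a6003, nat_lit 0x27a003158009ec03, nat_lit 0x27a0006800034c03, nat_lit 0x27a003148009ec03, nat_lit 0x27c0043f8018b403, nat_lit 0x27c0013d00189403, nat_lit 0x9f8010fe005a30043f0009fc05, nat_lit 0x2800043e800a0403, nat_lit 0x2800043f80047c03, nat_lit 0x28000440800a0403, nat_lit 0xa100110a0062300442000a1405, nat_lit 0x2860013e000a0403, nat_lit 0x2880013e000a0c03, nat_lit 0x28a0044180056c03, nat_lit 0x8950043d00225003, nat_lit 0xa20005160089600145000a2405, nat_lit 0x28c00443800a3403, nat_lit 0x28c0013f000a0403, nat_lit 0x28e00444800a3c03, nat_lit 0x28e004458018bc03, nat_lit 0x28e00446800a3c03, nat_lit 0xa38005000027a0031380050c05, nat_lit 0x290001410021fc03, nat_lit 0xd40006980229803, nat_lit 0x29200142000a1c03, nat_lit 0x2940044880222c03, nat_lit 0x2940014300220c03, nat_lit 0x6cc003170022b003, nat_lit 0x29600448800a3c03, nat_lit 0x2960014a8022c003, nat_lit 0xa580050c008850034b8005a405,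 nat_lit 0x29800143000a2403, nat_lit 0x8b90044c0022e003, nat_lit 0x29a00449800a4403, nat_lit 0x29a0014400220c03, nat_lit 0x630004548022f003, nat_lit 0x29c0044d800a7403, nat_lit 0x29e0044f800a7c03, nat_lit 0x29e004528005fc03, nat_lit 0xa80005240088f00149800a8405, nat_lit 0x2a20014a000a6403, nat_lit 0x2a2004578022f803, nat_lit 0x2a400459800a7c03, nat_lit 0x2a40045b80068403, nat_lit 0x2a60014b000a6403, nat_lit 0x8d30045d00234803, nat_lit 0xaa0005380089d00147800a7c05, nat_lit 0x2aa00463801c7403, nat_lit 0xaa80053c008a100367801c6405, nat_lit 0xab00053c008a30014f800ab405, nat_lit 0x2ae00464800abc03, nat_lit 0xab800540008ab0014b800a9405, nat_lit 0x2b00046580234803, nat_lit 0xac00119a008c00034d801ad005, nat_lit 0x2b200467800aac03, nat_lit 0x2b200468801d2c03, nat_lit 0xac800548008b500381801d1c05, nat_lit 0x2b600152000a9c03, nat_lit 0x8ed0046a0023b003, nat_lit 0x2b80046b800aac03, nat_lit 0xae000550008c300154800ae405, nat_lit 0xae800554008c500155800aec05, nat_lit 0x2bc00155000ab403,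 nat_lit 0x2bc0046c8007d403, nat_lit 0x2c000470800acc03, nat_lit 0x2c00046f800b0403, nat_lit 0x2c200472801c1403, nat_lit 0x2c400475801e5c03, nat_lit 0x2c400474801e5403, nat_lit 0x2c600473800af403, nat_lit 0x2c600159000ad403, nat_lit 0x2c800159000adc03, nat_lit 0x2ca0015a000adc03, nat_lit 0x90b0047700242803, nat_lit 0x2cc00479800b3403, nat_lit 0x2cc00478800aec03, nat_lit 0x2ce0047a800b3c03, nat_lit 0x2ce0015d000aa80053c0028e0014000220407, nat_lit 0x2d00015d000af403, nat_lit 0x2d20015d000afc03, nat_lit 0x2d40047c801d8403, nat_lit 0xb50011ee008dd0047b000b5405, nat_lit 0xb5000578008db003b1801e9805, nat_lit 0x2d60015f00236c03, nat_lit 0x1b6000da80248003, nat_lit 0x2d80047d800b1403, nat_lit 0x2d80047e800b6403, nat_lit 0x2da0047f801d2403, nat_lit 0xb6800584008e30047600242005, nat_lit 0x2dc00480801f7403, nat_lit 0xb7000588008e70015d800b3c05, nat_lit 0x2de00162000b1c03, nat_lit 0x2de004818008fc03, nat_lit 0x2e000162000b2403, nat_lit 0x2e200482800b5403, nat_lit 0xb880058c008eb003cc801f4005,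 nat_lit 0x2e400483800b2c03, nat_lit 0x93b004860024e803, nat_lit 0x2e600487800b9c03, nat_lit 0x2e600488800b3c03, nat_lit 0x2e800487800ba403, nat_lit 0x2e800488800b4c03, nat_lit 0x2ea00167000b4403, nat_lit 0x2ea00489800bac03, nat_lit 0x2ec00167000b4c03, nat_lit 0x2ee0048b800b5403, nat_lit 0x2f000168000b4c03, nat_lit 0x2f20048c800b5c03, nat_lit 0xbc80128800943004a2800bcc05, nat_lit 0x7640049180254003, nat_lit 0x2f600492800b7403, nat_lit 0x2f600493800bdc03, nat_lit 0x2f8004958024d003, nat_lit 0x2f800494801e6c03, nat_lit 0x2fa0016e000b7c03, nat_lit 0x2fa00497800bac03, nat_lit 0x2fc0016e000b8403, nat_lit 0x2fe00499801f6c03, nat_lit 0x30000498800b9403, nat_lit 0x9670049e00259803, nat_lit 0x3020049b800bd403, nat_lit 0x30400171000b9403, nat_lit 0x96d0049e0025b003, nat_lit 0x3060049f800c1c03, nat_lit 0x306004a0800bb403, nat_lit 0x308004a3800bbc03, nat_lit 0x30a004a4800c2c03, nat_lit 0x30c004a5800bcc03, nat_lit 0xc30012e400971004b9800c3405, nat_lit 0x7ae004aa8025e003, nat_lit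 0xc380129a0091d004a6000c3c05, nat_lit 0x310004a6800bd403, nat_lit 0x31200177000bc403, nat_lit 0x314004a9800c5403, nat_lit 0x314004aa001ec403, nat_lit 0xc58005e80091b003f380202005, nat_lit 0x2600013180262003, nat_lit 0x3180017a00247c03, nat_lit 0x31c004ab800bf403, nat_lit 0x31c004ac800c7403, nat_lit 0x31e004ad80258803, nat_lit 0x31e004ae801f7c03, nat_lit 0x320004af800bfc03, nat_lit 0xc80005f40092d0040080205805, nat_lit 0x322004af800c0403, nat_lit 0x322004b0800c2c03, nat_lit 0x3220017d000bf403, nat_lit 0x324004c900265403, nat_lit 0xc900131c00991004c7800c9405, nat_lit 0x328004b280207003, nat_lit 0x32a004b5800c5c03, nat_lit 0x822004c580269803, nat_lit 0x32c001810024e403, nat_lit 0x32c001958026a003, nat_lit 0x7b6003df001f0400fdc0026b004d6000cb007, nat_lit 0x32e004b5800c6c03, nat_lit 0x32e00181000c1403, nat_lit 0x9b3004b70026c803, nat_lit 0x330004ba800c3c03, nat_lit 0x334004ba800c4c03, nat_lit 0x33400184000c2c03, nat_lit 0x336004bb800cdc03, nat_lit 0x338004bc800c5403, nat_lit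 0x338004bd800ce403, nat_lit 0x338004be001fac03, nat_lit 0x33a00187000c4403, nat_lit 0x33c004bf800cf403, nat_lit 0x33c00187000c4c03, nat_lit 0x33e004c0800c6c03, nat_lit 0xd00013060094f00179800c5405, nat_lit 0x342004c2800d0c03, nat_lit 0x342004c380092403, nat_lit 0x344004c6801f9403, nat_lit 0x26a0040500274803, nat_lit 0x3460018c000c6c03, nat_lit 0x346001a280275003, nat_lit 0xd2001360009b5004d8800d2405, nat_lit 0x34a004cb800ca403, nat_lit 0x34a004cc80209803, nat_lit 0x34c004ce800cdc03, nat_lit 0x34c004cf800c9c03, nat_lit 0xd300133600969004cd000d3405, nat_lit 0x34e004d080097c03, nat_lit 0x34e004d1800d3c03, nat_lit 0x34e00192000c9c03, nat_lit 0x26800406802080013cc009e9004f580278807, nat_lit 0x350004d5801ffc03, nat_lit 0x350004d680276003, nat_lit 0x352004db800cec03, nat_lit 0x354004db800cf403, nat_lit 0x35600199000cd403, nat_lit 0x358004dc800d0403, nat_lit 0x35a004dd800cdc03, nat_lit 0x35c004e0800d7403, nat_lit 0x35c004e180099403, nat_lit 0x360004e2800cfc03, nat_lit 0x362004e3800d8c03,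 nat_lit 0x362004e4800d0403, nat_lit 0x364004e5800d2403, nat_lit 0x366004e6800d0c03, nat_lit 0x368004e7800da403, nat_lit 0x368004e880099c03, nat_lit 0x36a004eb800d2403, nat_lit 0x36c004ee80269403, nat_lit 0x2df0049980201000fb60081c0041600284007, nat_lit 0x36e004f78009b403, nat_lit 0x36e004f8800dac03, nat_lit 0x7f8003f9001fd40102a00a140050b80283c07, nat_lit 0x2860010e200867004298021700106c008720043b00204809, nat_lit 0x370004f9800d8403, nat_lit 0x370001a9000d5403, nat_lit 0x372004fa800d8c03, nat_lit 0x7b1004c30026100139800a040050100288007, nat_lit 0x374004fb800d6c03, nat_lit 0x376001ac000d6c03, nat_lit 0x378004fe800de403, nat_lit 0x378004ff8009dc03, nat_lit 0xde0006b8009bf001a1800da405, nat_lit 0x37a001af000d8403, nat_lit 0x37c00500800d9403, nat_lit 0xa0a0050680204001434009da005030028c007, nat_lit 0xa32001b400282003, nat_lit 0x145e0037d005190028b004, nat_lit 0x51b0028bc02, nat_lit 0x1bb0027e4006ce00a34001be00287006, nat_lit 0x51d00289c02, nat_lit 0x9b1004e50028000147000a290051580209007,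 nat_lit 0x144a00a3c0050f800dcc04, nat_lit 0x52000289402, nat_lit 0x27b00147c0032e004d700218c00d76005fa004340021b009, nat_lit 0x1486009fb004de802780013ca00a45004ef000db408, nat_lit 0xa130052300288803, nat_lit 0x2dc00524801ebc03, nat_lit 0x92e00525801fa403, nat_lit 0x9140052680217c03, nat_lit 0x13d80293c02]
theorem st0 : band (steps F IV RT base st0_l 447) (Nat.beq (Nat.add 447 (llen st0_l)) 1321) = true := by decide +kernel

theorem rot1_1 : T.rot 1 [1] (sel (ones 306936) ip1 1) = true := by decide +kernel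

theorem rot1_1r : band (Rule.ok (2 * 12) EX RL ⟨1 :: [1], [], 68, false⟩) (lall (memL L) [1]) = true := by decide +kernel

theorem rot1_2 : T.rot 1 [3, 1, 3] (sel (ones 306936) ip1 2) = true := by decide +kernel

theorem rot1_2r : band (Rule.ok (2 * 12) EX RL ⟨1 :: [3, 1, 3], [], 1, false⟩) (lall (memL L) [3, 1, 3]) = true := by decide +kernel

theorem rot1_3 : T.rot 1 [4, 1, 4] (sel (ones 306936) ip1 3) = true := by decide +kernel

theorem rot1_3r : band (Rule.ok (2 * 12) EX RL ⟨1 :: [4, 1, 4], [], 2, false⟩) (lall (memL L) [4, 1, 4]) = true := by decide +kernel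

theorem rot1_4 : T.rot 1 [5, 1, 5] (sel (ones 306936) ip1 4) = true := by decide +kernel

theorem rot1_4r : band (Rule.ok (2 * 12) EX RL ⟨1 :: [5, 1, 5], [], 3, false⟩) (lall (memL L) [5, 1, 5]) = true := by decide +kernel

theorem rot1_5 : T.rot 1 [6, 1, 6] (sel (ones 306936) ip1 5) = true := by decide +kernel

theorem rot1_5r : band (Rule.ok (2 * 12) EX RL ⟨1 :: [6, 1, 6], [], 4, false⟩) (lall (memL L) [6, 1, 6]) = true := by decide +kernel

theorem rot1_6 : T.rot 1 [7, 1, 7] (sel (ones 306936) ip1 6) = true := by decide +kernel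

theorem rot1_6r : band (Rule.ok (2 * 12) EX RL ⟨1 :: [7, 1, 7], [], 5, false⟩) (lall (memL L) [7, 1, 7]) = true := by decide +kernel

theorem rot1_7 : T.rot 1 [8, 1, 8] (sel (ones 306936) ip1 7) = true := by decide +kernel

theorem rot1_7r : band (Rule.ok (2 * 12) EX RL ⟨1 :: [8, 1, 8], [], 6, false⟩) (lall (memL L) [8, 1, 8]) = true := by decide +kernel

theorem rot1_8 : T.rot 1 [9, 1, 9] (sel (ones 306936) ip1 8) = true := by decide +kernel

theorem rot1_8r : band (Rule.ok (2 * 12) EX RL ⟨1 :: [9, 1, 9], [], 7, false⟩) (lall (memL L) [9, 1, 9]) = true := by decide +kernel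

theorem rot1_9 : T.rot 1 [10, 1, 10] (sel (ones 306936) ip1 9) = true := by decide +kernel

theorem rot1_9r : band (Rule.ok (2 * 12) EX RL ⟨1 :: [10, 1, 10], [], 8, false⟩) (lall (memL L) [10, 1, 10]) = true := by decide +kernel

theorem rot1_10 : T.rot 1 [11, 1, 11] (sel (ones 306936) ip1 10) = true := by decide +kernel

theorem rot1_10r : band (Rule.ok (2 * 12) EX RL ⟨1 :: [11, 1, 11], [], 9, false⟩) (lall (memL L) [11, 1, 11]) = true := by decide +kernel

theorem rot1_11 : T.rot 1 [2, 1, 2, 1, 2] (sel (ones 306936) ip1 11) = true := by decide +kernel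

theorem rot1_11r : band (Rule.ok (2 * 12) EX RL ⟨1 :: [2, 1, 2, 1, 2], [], 0, false⟩) (lall (memL L) [2, 1, 2, 1, 2]) = true := by decide +kernel

theorem rot1_12 : T.rot 1 [12, 1, 12, 1, 12] (sel (ones 306936) ip1 12) = true := by decide +kernel

theorem rot1_12r : band (Rule.ok (2 * 12) EX RL ⟨1 :: [12, 1, 12, 1, 12], [], 10, false⟩) (lall (memL L) [12, 1, 12, 1, 12]) = true := by decide +kernel

theorem rot1_13 : T.rot 1 [14, 8, 6, 5, 4, 3, 2] (sel (ones 306936) ip1 13) = true := by decide +kernel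

theorem rot1_13r : band (Rule.ok (2 * 12) EX RL ⟨1 :: [14, 8, 6, 5, 4, 3, 2], [], 68, false⟩) (lall (memL L) [14, 8, 6, 5, 4, 3, 2]) = true := by decide +kernel

theorem rot1_14 : T.rot 1 [2, 3, 4, 5, 6, 8, 13] (sel (ones 306936) ip1 14) = true := by decide +kernel

theorem rot1_14r : band (Rule.ok (2 * 12) EX RL ⟨1 :: [2, 3, 4, 5, 6, 8, 13], [], 68, false⟩) (lall (memL L) [2, 3, 4, 5, 6, 8, 13]) = true := by decide +kernel

theorem rot1_15 : T.rot 1 [2, 3, 4, 16, 9, 8, 4, 10, 7, 6, 5, 4, 11, 12] (sel (ones 306936) ip1 15) = true := by decide +kernel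

theorem rot1_15r : band (Rule.ok (2 * 12) EX RL ⟨1 :: [2, 3, 4, 16, 9, 8, 4, 10, 7, 6, 5, 4, 11, 12], [], 68, false⟩) (lall (memL L) [2, 3, 4, 16, 9, 8, 4, 10, 7, 6, 5, 4, 11, 12]) = true := by decide +kernel

theorem rot1_16 : T.rot 1 [12, 11, 4, 5, 6, 7, 10, 4, 8, 9, 15, 4, 3, 2] (sel (ones 306936) ip1 16) = true := by decide +kernel

theorem rot1_16r : band (Rule.ok (2 * 12) EX RL ⟨1 :: [12, 11, 4, 5, 6, 7, 10, 4, 8, 9, 15, 4, 3, 2], [], 68, false⟩) (lall (memL L) [12, 11, 4, 5, 6, 7, 10, 4, 8, 9, 15, 4, 3, 2]) = true := by decide +kernel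

theorem cov1 : T.cover 1 [(sel (ones 306936) ip1 1), (sel (ones 306936) ip1 2), (sel (ones 306936) ip1 3), (sel (ones 306936) ip1 4), (sel (ones 306936) ip1 5), (sel (ones 306936) ip1 6), (sel (ones 306936) ip1 7), (sel (ones 306936) ip1 8), (sel (ones 306936) ip1 9), (sel (ones 306936) ip1 10), (sel (ones 306936) ip1 11), (sel (ones 306936) ip1 12), (sel (ones 306936) ip1 13), (sel (ones 306936) ip1 14), (sel (ones 306936) ip1 15), (sel (ones 306936) ip1 16), 1] = true := by decide +kernel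

theorem tl1 : T.treeLt 19 1 = true := by decide +kernel

theorem rot2_1 : T.rot 2 [2] (sel (ones 306936) ip2 1) = true := by decide +kernel

theorem rot2_1r : band (Rule.ok (2 * 12) EX RL ⟨2 :: [2], [], 68, false⟩) (lall (memL L) [2]) = true := by decide +kernel

theorem rot2_2 : T.rot 2 [4, 2, 4] (sel (ones 306936) ip2 2) = true := by decide +kernel

theorem rot2_2r : band (Rule.ok (2 * 12) EX RL ⟨2 :: [4, 2, 4], [], 12, false⟩) (lall (memL L) [4, 2, 4]) = true := by decide +kernel

theorem rot2_3 : T.rot 2 [5, 2, 5] (sel (ones 306936) ip2 3) = true := by decide +kernel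

theorem rot2_3r : band (Rule.ok (2 * 12) EX RL ⟨2 :: [5, 2, 5], [], 13, false⟩) (lall (memL L) [5, 2, 5]) = true := by decide +kernel

theorem rot2_4 : T.rot 2 [6, 2, 6] (sel (ones 306936) ip2 4) = true := by decide +kernel

theorem rot2_4r : band (Rule.ok (2 * 12) EX RL ⟨2 :: [6, 2, 6], [], 14, false⟩) (lall (memL L) [6, 2, 6]) = true := by decide +kernel

theorem rot2_5 : T.rot 2 [7, 2, 7] (sel (ones 306936) ip2 5) = true := by decide +kernel

theorem rot2_5r : band (Rule.ok (2 * 12) EX RL ⟨2 :: [7, 2, 7], [], 15, false⟩) (lall (memL L) [7, 2, 7]) = true := by decide +kernel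

theorem rot2_6 : T.rot 2 [8, 2, 8] (sel (ones 306936) ip2 6) = true := by decide +kernel

theorem rot2_6r : band (Rule.ok (2 * 12) EX RL ⟨2 :: [8, 2, 8], [], 16, false⟩) (lall (memL L) [8, 2, 8]) = true := by decide +kernel

theorem rot2_7 : T.rot 2 [9, 2, 9] (sel (ones 306936) ip2 7) = true := by decide +kernel

theorem rot2_7r : band (Rule.ok (2 * 12) EX RL ⟨2 :: [9, 2, 9], [], 17, false⟩) (lall (memL L) [9, 2, 9]) = true := by decide +kernel

theorem rot2_8 : T.rot 2 [10, 2, 10] (sel (ones 306936) ip2 8) = true := by decide +kernel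

theorem rot2_8r : band (Rule.ok (2 * 12) EX RL ⟨2 :: [10, 2, 10], [], 18, false⟩) (lall (memL L) [10, 2, 10]) = true := by decide +kernel

theorem rot2_9 : T.rot 2 [11, 2, 11] (sel (ones 306936) ip2 9) = true := by decide +kernel

theorem rot2_9r : band (Rule.ok (2 * 12) EX RL ⟨2 :: [11, 2, 11], [], 19, false⟩) (lall (memL L) [11, 2, 11]) = true := by decide +kernel

theorem rot2_10 : T.rot 2 [12, 2, 12] (sel (ones 306936) ip2 10) = true := by decide +kernel

theorem rot2_10r : band (Rule.ok (2 * 12) EX RL ⟨2 :: [12, 2, 12], [], 20, false⟩) (lall (memL L) [12, 2, 12]) = true := by decide +kernel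

theorem rot2_11 : T.rot 2 [1, 2, 1, 2, 1] (sel (ones 306936) ip2 11) = true := by decide +kernel

theorem rot2_11r : band (Rule.ok (2 * 12) EX RL ⟨2 :: [1, 2, 1, 2, 1], [], 0, true⟩) (lall (memL L) [1, 2, 1, 2, 1]) = true := by decide +kernel

theorem rot2_12 : T.rot 2 [3, 2, 3, 2, 3] (sel (ones 306936) ip2 12) = true := by decide +kernel

theorem rot2_12r : band (Rule.ok (2 * 12) EX RL ⟨2 :: [3, 2, 3, 2, 3], [], 11, false⟩) (lall (memL L) [3, 2, 3, 2, 3]) = true := by decide +kernel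

theorem rot2_13 : T.rot 2 [1, 14, 8, 6, 5, 4, 3] (sel (ones 306936) ip2 13) = true := by decide +kernel

theorem rot2_13r : band (Rule.ok (2 * 12) EX RL ⟨2 :: [1, 14, 8, 6, 5, 4, 3], [], 68, false⟩) (lall (memL L) [1, 14, 8, 6, 5, 4, 3]) = true := by decide +kernel

theorem rot2_14 : T.rot 2 [3, 4, 5, 6, 8, 13, 1] (sel (ones 306936) ip2 14) = true := by decide +kernel

theorem rot2_14r : band (Rule.ok (2 * 12) EX RL ⟨2 :: [3, 4, 5, 6, 8, 13, 1], [], 68, false⟩) (lall (memL L) [3, 4, 5, 6, 8, 13, 1]) = true := by decide +kernel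

theorem rot2_15 : T.rot 2 [3, 4, 16, 9, 8, 4, 10, 7, 6, 5, 4, 11, 12, 1] (sel (ones 306936) ip2 15) = true := by decide +kernel

theorem rot2_15r : band (Rule.ok (2 * 12) EX RL ⟨2 :: [3, 4, 16, 9, 8, 4, 10, 7, 6, 5, 4, 11, 12, 1], [], 68, false⟩) (lall (memL L) [3, 4, 16, 9, 8, 4, 10, 7, 6, 5, 4, 11, 12, 1]) = true := by decide +kernel

theorem rot2_16 : T.rot 2 [1, 12, 11, 4, 5, 6, 7, 10, 4, 8, 9, 15, 4, 3] (sel (ones 306936) ip2 16) = true := by decide +kernel

theorem rot2_16r : band (Rule.ok (2 * 12) EX RL ⟨2 :: [1, 12, 11, 4, 5, 6, 7, 10, 4, 8, 9, 15, 4, 3], [], 68, false⟩) (lall (memL L) [1, 12, 11, 4, 5, 6, 7, 10, 4, 8, 9, 15, 4, 3]) = true := by decide +kernel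

theorem cov2 : T.cover 2 [(sel (ones 306936) ip2 1), (sel (ones 306936) ip2 2), (sel (ones 306936) ip2 3), (sel (ones 306936) ip2 4), (sel (ones 306936) ip2 5), (sel (ones 306936) ip2 6), (sel (ones 306936) ip2 7), (sel (ones 306936) ip2 8), (sel (ones 306936) ip2 9), (sel (ones 306936) ip2 10), (sel (ones 306936) ip2 11), (sel (ones 306936) ip2 12), (sel (ones 306936) ip2 13), (sel (ones 306936) ip2 14), (sel (ones 306936) ip2 15), (sel (ones 306936) ip2 16), 1] = true := by decide +kernel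

theorem tl2 : T.treeLt 19 2 = true := by decide +kernel

theorem rot3_1 : T.rot 3 [3] (sel (ones 306936) ip3 1) = true := by decide +kernel

theorem rot3_1r : band (Rule.ok (2 * 12) EX RL ⟨3 :: [3], [], 68, false⟩) (lall (memL L) [3]) = true := by decide +kernel

theorem rot3_2 : T.rot 3 [1, 3, 1] (sel (ones 306936) ip3 2) = true := by decide +kernel

theorem rot3_2r : band (Rule.ok (2 * 12) EX RL ⟨3 :: [1, 3, 1], [], 1, true⟩) (lall (memL L) [1, 3, 1]) = true := by decide +kernel

theorem rot3_3 : T.rot 3 [5, 3, 5] (sel (ones 306936) ip3 3) = true := by decide +kernel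

theorem rot3_3r : band (Rule.ok (2 * 12) EX RL ⟨3 :: [5, 3, 5], [], 22, false⟩) (lall (memL L) [5, 3, 5]) = true := by decide +kernel

theorem rot3_4 : T.rot 3 [6, 3, 6] (sel (ones 306936) ip3 4) = true := by decide +kernel

theorem rot3_4r : band (Rule.ok (2 * 12) EX RL ⟨3 :: [6, 3, 6], [], 23, false⟩) (lall (memL L) [6, 3, 6]) = true := by decide +kernel

theorem rot3_5 : T.rot 3 [7, 3, 7] (sel (ones 306936) ip3 5) = true := by decide +kernel

theorem rot3_5r : band (Rule.ok (2 * 12) EX RL ⟨3 :: [7, 3, 7], [], 24, false⟩) (lall (memL L) [7, 3, 7]) = true := by decide +kernel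

theorem rot3_6 : T.rot 3 [8, 3, 8] (sel (ones 306936) ip3 6) = true := by decide +kernel

theorem rot3_6r : band (Rule.ok (2 * 12) EX RL ⟨3 :: [8, 3, 8], [], 25, false⟩) (lall (memL L) [8, 3, 8]) = true := by decide +kernel

theorem rot3_7 : T.rot 3 [9, 3, 9] (sel (ones 306936) ip3 7) = true := by decide +kernel

theorem rot3_7r : band (Rule.ok (2 * 12) EX RL ⟨3 :: [9, 3, 9], [], 26, false⟩) (lall (memL L) [9, 3, 9]) = true := by decide +kernel

theorem rot3_8 : T.rot 3 [10, 3, 10] (sel (ones 306936) ip3 8) = true := by decide +kernel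

theorem rot3_8r : band (Rule.ok (2 * 12) EX RL ⟨3 :: [10, 3, 10], [], 27, false⟩) (lall (memL L) [10, 3, 10]) = true := by decide +kernel

theorem rot3_9 : T.rot 3 [11, 3, 11] (sel (ones 306936) ip3 9) = true := by decide +kernel

theorem rot3_9r : band (Rule.ok (2 * 12) EX RL ⟨3 :: [11, 3, 11], [], 28, false⟩) (lall (memL L) [11, 3, 11]) = true := by decide +kernel

theorem rot3_10 : T.rot 3 [12, 3, 12] (sel (ones 306936) ip3 10) = true := by decide +kernel

theorem rot3_10r : band (Rule.ok (2 * 12) EX RL ⟨3 :: [12, 3, 12], [], 29, false⟩) (lall (memL L) [12, 3, 12]) = true := by decide +kernel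

theorem rot3_11 : T.rot 3 [2, 3, 2, 3, 2] (sel (ones 306936) ip3 11) = true := by decide +kernel

theorem rot3_11r : band (Rule.ok (2 * 12) EX RL ⟨3 :: [2, 3, 2, 3, 2], [], 11, true⟩) (lall (memL L) [2, 3, 2, 3, 2]) = true := by decide +kernel

theorem rot3_12 : T.rot 3 [4, 3, 4, 3, 4] (sel (ones 306936) ip3 12) = true := by decide +kernel

theorem rot3_12r : band (Rule.ok (2 * 12) EX RL ⟨3 :: [4, 3, 4, 3, 4], [], 21, false⟩) (lall (memL L) [4, 3, 4, 3, 4]) = true := by decide +kernel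

theorem rot3_13 : T.rot 3 [2, 1, 14, 8, 6, 5, 4] (sel (ones 306936) ip3 13) = true := by decide +kernel

theorem rot3_13r : band (Rule.ok (2 * 12) EX RL ⟨3 :: [2, 1, 14, 8, 6, 5, 4], [], 68, false⟩) (lall (memL L) [2, 1, 14, 8, 6, 5, 4]) = true := by decide +kernel

theorem rot3_14 : T.rot 3 [4, 5, 6, 8, 13, 1, 2] (sel (ones 306936) ip3 14) = true := by decide +kernel

theorem rot3_14r : band (Rule.ok (2 * 12) EX RL ⟨3 :: [4, 5, 6, 8, 13, 1, 2], [], 68, false⟩) (lall (memL L) [4, 5, 6, 8, 13, 1, 2]) = true := by decide +kernel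

theorem rot3_15 : T.rot 3 [4, 16, 9, 8, 4, 10, 7, 6, 5, 4, 11, 12, 1, 2] (sel (ones 306936) ip3 15) = true := by decide +kernel

theorem rot3_15r : band (Rule.ok (2 * 12) EX RL ⟨3 :: [4, 16, 9, 8, 4, 10, 7, 6, 5, 4, 11, 12, 1, 2], [], 68, false⟩) (lall (memL L) [4, 16, 9, 8, 4, 10, 7, 6, 5, 4, 11, 12, 1, 2]) = true := by decide +kernel

theorem rot3_16 : T.rot 3 [2, 1, 12, 11, 4, 5, 6, 7, 10, 4, 8, 9, 15, 4] (sel (ones 306936) ip3 16) = true := by decide +kernel

theorem rot3_16r : band (Rule.ok (2 * 12) EX RL ⟨3 :: [2, 1, 12, 11, 4, 5, 6, 7, 10, 4, 8, 9, 15, 4], [], 68, false⟩) (lall (memL L) [2, 1, 12, 11, 4, 5, 6, 7, 10, 4, 8, 9, 15, 4]) = true := by decide +kernel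

theorem cov3 : T.cover 3 [(sel (ones 306936) ip3 1), (sel (ones 306936) ip3 2), (sel (ones 306936) ip3 3), (sel (ones 306936) ip3 4), (sel (ones 306936) ip3 5), (sel (ones 306936) ip3 6), (sel (ones 306936) ip3 7), (sel (ones 306936) ip3 8), (sel (ones 306936) ip3 9), (sel (ones 306936) ip3 10), (sel (ones 306936) ip3 11), (sel (ones 306936) ip3 12), (sel (ones 306936) ip3 13), (sel (ones 306936) ip3 14), (sel (ones 306936) ip3 15), (sel (ones 306936) ip3 16), 1] = true := by decide +kernel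

theorem tl3 : T.treeLt 19 3 = true := by decide +kernel

theorem rot4_1 : T.rot 4 [4] (sel (ones 306936) ip4 1) = true := by decide +kernel

theorem rot4_1r : band (Rule.ok (2 * 12) EX RL ⟨4 :: [4], [], 68, false⟩) (lall (memL L) [4]) = true := by decide +kernel

theorem rot4_2 : T.rot 4 [1, 4, 1] (sel (ones 306936) ip4 2) = true := by decide +kernel

theorem rot4_2r : band (Rule.ok (2 * 12) EX RL ⟨4 :: [1, 4, 1], [], 2, true⟩) (lall (memL L) [1, 4, 1]) = true := by decide +kernel

theorem rot4_3 : T.rot 4 [2, 4, 2] (sel (ones 306936) ip4 3) = true := by decide +kernel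

theorem rot4_3r : band (Rule.ok (2 * 12) EX RL ⟨4 :: [2, 4, 2], [], 12, true⟩) (lall (memL L) [2, 4, 2]) = true := by decide +kernel

theorem rot4_4 : T.rot 4 [6, 4, 6] (sel (ones 306936) ip4 4) = true := by decide +kernel

theorem rot4_4r : band (Rule.ok (2 * 12) EX RL ⟨4 :: [6, 4, 6], [], 31, false⟩) (lall (memL L) [6, 4, 6]) = true := by decide +kernel

theorem rot4_5 : T.rot 4 [7, 4, 7] (sel (ones 306936) ip4 5) = true := by decide +kernel

theorem rot4_5r : band (Rule.ok (2 * 12) EX RL ⟨4 :: [7, 4, 7], [], 32, false⟩) (lall (memL L) [7, 4, 7]) = true := by decide +kernel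

theorem rot4_6 : T.rot 4 [9, 4, 9] (sel (ones 306936) ip4 6) = true := by decide +kernel

theorem rot4_6r : band (Rule.ok (2 * 12) EX RL ⟨4 :: [9, 4, 9], [], 34, false⟩) (lall (memL L) [9, 4, 9]) = true := by decide +kernel

theorem rot4_7 : T.rot 4 [10, 4, 10] (sel (ones 306936) ip4 7) = true := by decide +kernel

theorem rot4_7r : band (Rule.ok (2 * 12) EX RL ⟨4 :: [10, 4, 10], [], 35, false⟩) (lall (memL L) [10, 4, 10]) = true := by decide +kernel

theorem rot4_8 : T.rot 4 [11, 4, 11] (sel (ones 306936) ip4 8) = true := by decide +kernel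

theorem rot4_8r : band (Rule.ok (2 * 12) EX RL ⟨4 :: [11, 4, 11], [], 36, false⟩) (lall (memL L) [11, 4, 11]) = true := by decide +kernel

theorem rot4_9 : T.rot 4 [12, 4, 12] (sel (ones 306936) ip4 9) = true := by decide +kernel

theorem rot4_9r : band (Rule.ok (2 * 12) EX RL ⟨4 :: [12, 4, 12], [], 37, false⟩) (lall (memL L) [12, 4, 12]) = true := by decide +kernel

theorem rot4_10 : T.rot 4 [3, 4, 3, 4, 3] (sel (ones 306936) ip4 10) = true := by decide +kernel

theorem rot4_10r : band (Rule.ok (2 * 12) EX RL ⟨4 :: [3, 4, 3, 4, 3], [], 21, true⟩) (lall (memL L) [3, 4, 3, 4, 3]) = true := by decide +kernel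

theorem rot4_11 : T.rot 4 [5, 4, 5, 4, 5] (sel (ones 306936) ip4 11) = true := by decide +kernel

theorem rot4_11r : band (Rule.ok (2 * 12) EX RL ⟨4 :: [5, 4, 5, 4, 5], [], 30, false⟩) (lall (memL L) [5, 4, 5, 4, 5]) = true := by decide +kernel

theorem rot4_12 : T.rot 4 [8, 4, 8, 4, 8] (sel (ones 306936) ip4 12) = true := by decide +kernel

theorem rot4_12r : band (Rule.ok (2 * 12) EX RL ⟨4 :: [8, 4, 8, 4, 8], [], 33, false⟩) (lall (memL L) [8, 4, 8, 4, 8]) = true := by decide +kernel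

theorem rot4_13 : T.rot 4 [3, 2, 1, 14, 8, 6, 5] (sel (ones 306936) ip4 13) = true := by decide +kernel

theorem rot4_13r : band (Rule.ok (2 * 12) EX RL ⟨4 :: [3, 2, 1, 14, 8, 6, 5], [], 68, false⟩) (lall (memL L) [3, 2, 1, 14, 8, 6, 5]) = true := by decide +kernel

theorem rot4_14 : T.rot 4 [5, 6, 8, 13, 1, 2, 3] (sel (ones 306936) ip4 14) = true := by decide +kernel

theorem rot4_14r : band (Rule.ok (2 * 12) EX RL ⟨4 :: [5, 6, 8, 13, 1, 2, 3], [], 68, false⟩) (lall (memL L) [5, 6, 8, 13, 1, 2, 3]) = true := by decide +kernel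

theorem rot4_15 : T.rot 4 [10, 7, 6, 5, 4, 11, 12, 1, 2, 3, 4, 16, 9, 8] (sel (ones 306936) ip4 15) = true := by decide +kernel

theorem rot4_15r : band (Rule.ok (2 * 12) EX RL ⟨4 :: [10, 7, 6, 5, 4, 11, 12, 1, 2, 3, 4, 16, 9, 8], [], 68, false⟩) (lall (memL L) [10, 7, 6, 5, 4, 11, 12, 1, 2, 3, 4, 16, 9, 8]) = true := by decide +kernel

theorem rot4_16 : T.rot 4 [11, 12, 1, 2, 3, 4, 16, 9, 8, 4, 10, 7, 6, 5] (sel (ones 306936) ip4 16) = true := by decide +kernel

theorem rot4_16r : band (Rule.ok (2 * 12) EX RL ⟨4 :: [11, 12, 1, 2, 3, 4, 16, 9, 8, 4, 10, 7, 6, 5], [], 68, false⟩) (lall (memL L) [11, 12, 1, 2, 3, 4, 16, 9, 8, 4, 10, 7, 6, 5]) = true := by decide +kernel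

theorem rot4_17 : T.rot 4 [16, 9, 8, 4, 10, 7, 6, 5, 4, 11, 12, 1, 2, 3] (sel (ones 306936) ip4 17) = true := by decide +kernel

theorem rot4_17r : band (Rule.ok (2 * 12) EX RL ⟨4 :: [16, 9, 8, 4, 10, 7, 6, 5, 4, 11, 12, 1, 2, 3], [], 68, false⟩) (lall (memL L) [16, 9, 8, 4, 10, 7, 6, 5, 4, 11, 12, 1, 2, 3]) = true := by decide +kernel

theorem rot4_18 : T.rot 4 [3, 2, 1, 12, 11, 4, 5, 6, 7, 10, 4, 8, 9, 15] (sel (ones 306936) ip4 18) = true := by decide +kernel

theorem rot4_18r : band (Rule.ok (2 * 12) EX RL ⟨4 :: [3, 2, 1, 12, 11, 4, 5, 6, 7, 10, 4, 8, 9, 15], [], 68, false⟩) (lall (memL L) [3, 2, 1, 12, 11, 4, 5, 6, 7, 10, 4, 8, 9, 15]) = true := by decide +kernel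

theorem rot4_19 : T.rot 4 [5, 6, 7, 10, 4, 8, 9, 15, 4, 3, 2, 1, 12, 11] (sel (ones 306936) ip4 19) = true := by decide +kernel

theorem rot4_19r : band (Rule.ok (2 * 12) EX RL ⟨4 :: [5, 6, 7, 10, 4, 8, 9, 15, 4, 3, 2, 1, 12, 11], [], 68, false⟩) (lall (memL L) [5, 6, 7, 10, 4, 8, 9, 15, 4, 3, 2, 1, 12, 11]) = true := by decide +kernel

theorem rot4_20 : T.rot 4 [8, 9, 15, 4, 3, 2, 1, 12, 11, 4, 5, 6, 7, 10] (sel (ones 306936) ip4 20) = true := by decide +kernel

theorem rot4_20r : band (Rule.ok (2 * 12) EX RL ⟨4 :: [8, 9, 15, 4, 3, 2, 1, 12, 11, 4, 5, 6, 7, 10], [], 68, false⟩) (lall (memL L) [8, 9, 15, 4, 3, 2, 1, 12, 11, 4, 5, 6, 7, 10]) = true := by decide +kernel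

theorem cov4 : T.cover 4 [(sel (ones 306936) ip4 1), (sel (ones 306936) ip4 2), (sel (ones 306936) ip4 3), (sel (ones 306936) ip4 4), (sel (ones 306936) ip4 5), (sel (ones 306936) ip4 6), (sel (ones 306936) ip4 7), (sel (ones 306936) ip4 8), (sel (ones 306936) ip4 9), (sel (ones 306936) ip4 10), (sel (ones 306936) ip4 11), (sel (ones 306936) ip4 12), (sel (ones 306936) ip4 13), (sel (ones 306936) ip4 14), (sel (ones 306936) ip4 15), (sel (ones 306936) ip4 16), (sel (ones 306936) ip4 17), (sel (ones 306936) ip4 18), (sel (ones 306936) ip4 19), (sel (ones 306936) ip4 20), 1] = true := by decide +kernel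

theorem tl4 : T.treeLt 19 4 = true := by decide +kernel

theorem rot5_1 : T.rot 5 [5] (sel (ones 306936) ip5 1) = true := by decide +kernel

theorem rot5_1r : band (Rule.ok (2 * 12) EX RL ⟨5 :: [5], [], 68, false⟩) (lall (memL L) [5]) = true := by decide +kernel

theorem rot5_2 : T.rot 5 [1, 5, 1] (sel (ones 306936) ip5 2) = true := by decide +kernel

theorem rot5_2r : band (Rule.ok (2 * 12) EX RL ⟨5 :: [1, 5, 1], [], 3, true⟩) (lall (memL L) [1, 5, 1]) = true := by decide +kernel

theorem rot5_3 : T.rot 5 [2, 5, 2] (sel (ones 306936) ip5 3) = true := by decide +kernel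

theorem rot5_3r : band (Rule.ok (2 * 12) EX RL ⟨5 :: [2, 5, 2], [], 13, true⟩) (lall (memL L) [2, 5, 2]) = true := by decide +kernel

theorem rot5_4 : T.rot 5 [3, 5, 3] (sel (ones 306936) ip5 4) = true := by decide +kernel

theorem rot5_4r : band (Rule.ok (2 * 12) EX RL ⟨5 :: [3, 5, 3], [], 22, true⟩) (lall (memL L) [3, 5, 3]) = true := by decide +kernel

theorem rot5_5 : T.rot 5 [7, 5, 7] (sel (ones 306936) ip5 5) = true := by decide +kernel

theorem rot5_5r : band (Rule.ok (2 * 12) EX RL ⟨5 :: [7, 5, 7], [], 39, false⟩) (lall (memL L) [7, 5, 7]) = true := by decide +kernel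

theorem rot5_6 : T.rot 5 [8, 5, 8] (sel (ones 306936) ip5 6) = true := by decide +kernel

theorem rot5_6r : band (Rule.ok (2 * 12) EX RL ⟨5 :: [8, 5, 8], [], 40, false⟩) (lall (memL L) [8, 5, 8]) = true := by decide +kernel

theorem rot5_7 : T.rot 5 [9, 5, 9] (sel (ones 306936) ip5 7) = true := by decide +kernel

theorem rot5_7r : band (Rule.ok (2 * 12) EX RL ⟨5 :: [9, 5, 9], [], 41, false⟩) (lall (memL L) [9, 5, 9]) = true := by decide +kernel

theorem rot5_8 : T.rot 5 [10, 5, 10] (sel (ones 306936) ip5 8) = true := by decide +kernel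

theorem rot5_8r : band (Rule.ok (2 * 12) EX RL ⟨5 :: [10, 5, 10], [], 42, false⟩) (lall (memL L) [10, 5, 10]) = true := by decide +kernel

theorem rot5_9 : T.rot 5 [11, 5, 11] (sel (ones 306936) ip5 9) = true := by decide +kernel

theorem rot5_9r : band (Rule.ok (2 * 12) EX RL ⟨5 :: [11, 5, 11], [], 43, false⟩) (lall (memL L) [11, 5, 11]) = true := by decide +kernel

theorem rot5_10 : T.rot 5 [12, 5, 12] (sel (ones 306936) ip5 10) = true := by decide +kernel

theorem rot5_10r : band (Rule.ok (2 * 12) EX RL ⟨5 :: [12, 5, 12], [], 44, false⟩) (lall (memL L) [12, 5, 12]) = true := by decide +kernel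

theorem rot5_11 : T.rot 5 [4, 5, 4, 5, 4] (sel (ones 306936) ip5 11) = true := by decide +kernel

theorem rot5_11r : band (Rule.ok (2 * 12) EX RL ⟨5 :: [4, 5, 4, 5, 4], [], 30, true⟩) (lall (memL L) [4, 5, 4, 5, 4]) = true := by decide +kernel

theorem rot5_12 : T.rot 5 [6, 5, 6, 5, 6] (sel (ones 306936) ip5 12) = true := by decide +kernel

theorem rot5_12r : band (Rule.ok (2 * 12) EX RL ⟨5 :: [6, 5, 6, 5, 6], [], 38, false⟩) (lall (memL L) [6, 5, 6, 5, 6]) = true := by decide +kernel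

theorem rot5_13 : T.rot 5 [4, 3, 2, 1, 14, 8, 6] (sel (ones 306936) ip5 13) = true := by decide +kernel

theorem rot5_13r : band (Rule.ok (2 * 12) EX RL ⟨5 :: [4, 3, 2, 1, 14, 8, 6], [], 68, false⟩) (lall (memL L) [4, 3, 2, 1, 14, 8, 6]) = true := by decide +kernel

theorem rot5_14 : T.rot 5 [6, 8, 13, 1, 2, 3, 4] (sel (ones 306936) ip5 14) = true := by decide +kernel

theorem rot5_14r : band (Rule.ok (2 * 12) EX RL ⟨5 :: [6, 8, 13, 1, 2, 3, 4], [], 68, false⟩) (lall (memL L) [6, 8, 13, 1, 2, 3, 4]) = true := by decide +kernel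

theorem rot5_15 : T.rot 5 [4, 11, 12, 1, 2, 3, 4, 16, 9, 8, 4, 10, 7, 6] (sel (ones 306936) ip5 15) = true := by decide +kernel

theorem rot5_15r : band (Rule.ok (2 * 12) EX RL ⟨5 :: [4, 11, 12, 1, 2, 3, 4, 16, 9, 8, 4, 10, 7, 6], [], 68, false⟩) (lall (memL L) [4, 11, 12, 1, 2, 3, 4, 16, 9, 8, 4, 10, 7, 6]) = true := by decide +kernel

theorem rot5_16 : T.rot 5 [6, 7, 10, 4, 8, 9, 15, 4, 3, 2, 1, 12, 11, 4] (sel (ones 306936) ip5 16) = true := by decide +kernel

theorem rot5_16r : band (Rule.ok (2 * 12) EX RL ⟨5 :: [6, 7, 10, 4, 8, 9, 15, 4, 3, 2, 1, 12, 11, 4], [], 68, false⟩) (lall (memL L) [6, 7, 10, 4, 8, 9, 15, 4, 3, 2, 1, 12, 11, 4]) = true := by decide +kernel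

theorem ep0a : T.treePath [12, 1, 2, 3, 4, 5, 8, 4, 3, 2, 9, 8, 4, 3] (Nat.shiftLeft 1 351) 1 = true := by decide +kernel

theorem ep0b : T.treePath [12, 1, 2, 3, 4, 5, 8, 4, 3, 2, 1, 9, 8, 4, 11] (Nat.shiftLeft 1 502) 1 = true := by decide +kernel

theorem ep0c : band (lall (fun z => Nat.ble z 255) ([12, 1, 2, 3, 4, 5, 8, 4, 3, 2, 9, 8, 4, 3] ++ 5 :: [11, 4, 8, 9, 1, 2, 3, 4, 8, 5, 4, 3, 2, 1, 12])) (concl F IV 1321 0x80000c0000a000070000480002c00022000150000e8000ac00086000650004980033c0023600a5000068000250000cc00044000150000700002800010000050000200000c00004000010000001e (encA ([12, 1, 2, 3, 4, 5, 8, 4, 3, 2, 9, 8, 4, 3] ++ 5 :: [11, 4, 8, 9, 1, 2, 3, 4, 8, 5, 4, 3, 2, 1, 12]) 0)) = true := by decide +kernel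

theorem ep0d : band (Rule.ok (2 * 12) EX [] ⟨lapp [12, 1, 2, 3, 4, 5, 8, 4, 3, 2, 1, 9, 8, 4, 11] [11, 4, 8, 9, 1, 2, 3, 4, 8, 5, 4, 3, 2, 1, 12], [], 0, false⟩) (band (lall (memL L) [12, 1, 2, 3, 4, 5, 8, 4, 3, 2, 9, 8, 4, 3]) (lall (memL L) [12, 1, 2, 3, 4, 5, 8, 4, 3, 2, 1, 9, 8, 4, 11])) = true := by decide +kernel

theorem cov5 : T.cover 5 [(sel (ones 306936) ip5 1), (sel (ones 306936) ip5 2), (sel (ones 306936) ip5 3), (sel (ones 306936) ip5 4), (sel (ones 306936) ip5 5), (sel (ones 306936) ip5 6), (sel (ones 306936) ip5 7), (sel (ones 306936) ip5 8), (sel (ones 306936) ip5 9), (sel (ones 306936) ip5 10), (sel (ones 306936) ip5 11), (sel (ones 306936) ip5 12), (sel (ones 306936) ip5 13), (sel (ones 306936) ip5 14), (sel (ones 306936) ip5 15), (sel (ones 306936) ip5 16), 1, (Nat.shiftLeft 1 351)] = true := by decide +kernel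

theorem tl5 : T.treeLt 19 5 = true := by decide +kernel

theorem rot6_1 : T.rot 6 [6] (sel (ones 306936) ip6 1) = true := by decide +kernel

theorem rot6_1r : band (Rule.ok (2 * 12) EX RL ⟨6 :: [6], [], 68, false⟩) (lall (memL L) [6]) = true := by decide +kernel

theorem rot6_2 : T.rot 6 [1, 6, 1] (sel (ones 306936) ip6 2) = true := by decide +kernel

theorem rot6_2r : band (Rule.ok (2 * 12) EX RL ⟨6 :: [1, 6, 1], [], 4, true⟩) (lall (memL L) [1, 6, 1]) = true := by decide +kernel

theorem rot6_3 : T.rot 6 [2, 6, 2] (sel (ones 306936) ip6 3) = true := by decide +kernel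

theorem rot6_3r : band (Rule.ok (2 * 12) EX RL ⟨6 :: [2, 6, 2], [], 14, true⟩) (lall (memL L) [2, 6, 2]) = true := by decide +kernel

theorem rot6_4 : T.rot 6 [3, 6, 3] (sel (ones 306936) ip6 4) = true := by decide +kernel

theorem rot6_4r : band (Rule.ok (2 * 12) EX RL ⟨6 :: [3, 6, 3], [], 23, true⟩) (lall (memL L) [3, 6, 3]) = true := by decide +kernel

theorem rot6_5 : T.rot 6 [4, 6, 4] (sel (ones 306936) ip6 5) = true := by decide +kernel

theorem rot6_5r : band (Rule.ok (2 * 12) EX RL ⟨6 :: [4, 6, 4], [], 31, true⟩) (lall (memL L) [4, 6, 4]) = true := by decide +kernel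

theorem rot6_6 : T.rot 6 [8, 6, 8] (sel (ones 306936) ip6 6) = true := by decide +kernel

theorem rot6_6r : band (Rule.ok (2 * 12) EX RL ⟨6 :: [8, 6, 8], [], 46, false⟩) (lall (memL L) [8, 6, 8]) = true := by decide +kernel

theorem rot6_7 : T.rot 6 [9, 6, 9] (sel (ones 306936) ip6 7) = true := by decide +kernel

theorem rot6_7r : band (Rule.ok (2 * 12) EX RL ⟨6 :: [9, 6, 9], [], 47, false⟩) (lall (memL L) [9, 6, 9]) = true := by decide +kernel

theorem rot6_8 : T.rot 6 [10, 6, 10] (sel (ones 306936) ip6 8) = true := by decide +kernel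

theorem rot6_8r : band (Rule.ok (2 * 12) EX RL ⟨6 :: [10, 6, 10], [], 48, false⟩) (lall (memL L) [10, 6, 10]) = true := by decide +kernel

theorem rot6_9 : T.rot 6 [11, 6, 11] (sel (ones 306936) ip6 9) = true := by decide +kernel

theorem rot6_9r : band (Rule.ok (2 * 12) EX RL ⟨6 :: [11, 6, 11], [], 49, false⟩) (lall (memL L) [11, 6, 11]) = true := by decide +kernel

theorem rot6_10 : T.rot 6 [12, 6, 12] (sel (ones 306936) ip6 10) = true := by decide +kernel

theorem rot6_10r : band (Rule.ok (2 * 12) EX RL ⟨6 :: [12, 6, 12], [], 50, false⟩) (lall (memL L) [12, 6, 12]) = true := by decide +kernel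

theorem rot6_11 : T.rot 6 [5, 6, 5, 6, 5] (sel (ones 306936) ip6 11) = true := by decide +kernel

theorem rot6_11r : band (Rule.ok (2 * 12) EX RL ⟨6 :: [5, 6, 5, 6, 5], [], 38, true⟩) (lall (memL L) [5, 6, 5, 6, 5]) = true := by decide +kernel

theorem rot6_12 : T.rot 6 [7, 6, 7, 6, 7] (sel (ones 306936) ip6 12) = true := by decide +kernel

theorem rot6_12r : band (Rule.ok (2 * 12) EX RL ⟨6 :: [7, 6, 7, 6, 7], [], 45, false⟩) (lall (memL L) [7, 6, 7, 6, 7]) = true := by decide +kernel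

theorem rot6_13 : T.rot 6 [5, 4, 3, 2, 1, 14, 8] (sel (ones 306936) ip6 13) = true := by decide +kernel

theorem rot6_13r : band (Rule.ok (2 * 12) EX RL ⟨6 :: [5, 4, 3, 2, 1, 14, 8], [], 68, false⟩) (lall (memL L) [5, 4, 3, 2, 1, 14, 8]) = true := by decide +kernel

theorem rot6_14 : T.rot 6 [8, 13, 1, 2, 3, 4, 5] (sel (ones 306936) ip6 14) = true := by decide +kernel

theorem rot6_14r : band (Rule.ok (2 * 12) EX RL ⟨6 :: [8, 13, 1, 2, 3, 4, 5], [], 68, false⟩) (lall (memL L) [8, 13, 1, 2, 3, 4, 5]) = true := by decide +kernel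

theorem rot6_15 : T.rot 6 [5, 4, 11, 12, 1, 2, 3, 4, 16, 9, 8, 4, 10, 7] (sel (ones 306936) ip6 15) = true := by decide +kernel

theorem rot6_15r : band (Rule.ok (2 * 12) EX RL ⟨6 :: [5, 4, 11, 12, 1, 2, 3, 4, 16, 9, 8, 4, 10, 7], [], 68, false⟩) (lall (memL L) [5, 4, 11, 12, 1, 2, 3, 4, 16, 9, 8, 4, 10, 7]) = true := by decide +kernel

theorem rot6_16 : T.rot 6 [7, 10, 4, 8, 9, 15, 4, 3, 2, 1, 12, 11, 4, 5] (sel (ones 306936) ip6 16) = true := by decide +kernel

theorem rot6_16r : band (Rule.ok (2 * 12) EX RL ⟨6 :: [7, 10, 4, 8, 9, 15, 4, 3, 2, 1, 12, 11, 4, 5], [], 68, false⟩) (lall (memL L) [7, 10, 4, 8, 9, 15, 4, 3, 2, 1, 12, 11, 4, 5]) = true := by decide +kernel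

theorem cov6 : T.cover 6 [(sel (ones 306936) ip6 1), (sel (ones 306936) ip6 2), (sel (ones 306936) ip6 3), (sel (ones 306936) ip6 4), (sel (ones 306936) ip6 5), (sel (ones 306936) ip6 6), (sel (ones 306936) ip6 7), (sel (ones 306936) ip6 8), (sel (ones 306936) ip6 9), (sel (ones 306936) ip6 10), (sel (ones 306936) ip6 11), (sel (ones 306936) ip6 12), (sel (ones 306936) ip6 13), (sel (ones 306936) ip6 14), (sel (ones 306936) ip6 15), (sel (ones 306936) ip6 16), 1] = true := by decide +kernel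

theorem tl6 : T.treeLt 19 6 = true := by decide +kernel

theorem rot7_1 : T.rot 7 [7] (sel (ones 306936) ip7 1) = true := by decide +kernel

theorem rot7_1r : band (Rule.ok (2 * 12) EX RL ⟨7 :: [7], [], 68, false⟩) (lall (memL L) [7]) = true := by decide +kernel

theorem rot7_2 : T.rot 7 [1, 7, 1] (sel (ones 306936) ip7 2) = true := by decide +kernel

theorem rot7_2r : band (Rule.ok (2 * 12) EX RL ⟨7 :: [1, 7, 1], [], 5, true⟩) (lall (memL L) [1, 7, 1]) = true := by decide +kernel

theorem rot7_3 : T.rot 7 [2, 7, 2] (sel (ones 306936) ip7 3) = true := by decide +kernel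

theorem rot7_3r : band (Rule.ok (2 * 12) EX RL ⟨7 :: [2, 7, 2], [], 15, true⟩) (lall (memL L) [2, 7, 2]) = true := by decide +kernel

theorem rot7_4 : T.rot 7 [3, 7, 3] (sel (ones 306936) ip7 4) = true := by decide +kernel

theorem rot7_4r : band (Rule.ok (2 * 12) EX RL ⟨7 :: [3, 7, 3], [], 24, true⟩) (lall (memL L) [3, 7, 3]) = true := by decide +kernel

theorem rot7_5 : T.rot 7 [4, 7, 4] (sel (ones 306936) ip7 5) = true := by decide +kernel

theorem rot7_5r : band (Rule.ok (2 * 12) EX RL ⟨7 :: [4, 7, 4], [], 32, true⟩) (lall (memL L) [4, 7, 4]) = true := by decide +kernel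

theorem rot7_6 : T.rot 7 [5, 7, 5] (sel (ones 306936) ip7 6) = true := by decide +kernel

theorem rot7_6r : band (Rule.ok (2 * 12) EX RL ⟨7 :: [5, 7, 5], [], 39, true⟩) (lall (memL L) [5, 7, 5]) = true := by decide +kernel

theorem rot7_7 : T.rot 7 [8, 7, 8] (sel (ones 306936) ip7 7) = true := by decide +kernel

theorem rot7_7r : band (Rule.ok (2 * 12) EX RL ⟨7 :: [8, 7, 8], [], 51, false⟩) (lall (memL L) [8, 7, 8]) = true := by decide +kernel

theorem rot7_8 : T.rot 7 [9, 7, 9] (sel (ones 306936) ip7 8) = true := by decide +kernel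

theorem rot7_8r : band (Rule.ok (2 * 12) EX RL ⟨7 :: [9, 7, 9], [], 52, false⟩) (lall (memL L) [9, 7, 9]) = true := by decide +kernel

theorem rot7_9 : T.rot 7 [11, 7, 11] (sel (ones 306936) ip7 9) = true := by decide +kernel

theorem rot7_9r : band (Rule.ok (2 * 12) EX RL ⟨7 :: [11, 7, 11], [], 54, false⟩) (lall (memL L) [11, 7, 11]) = true := by decide +kernel

theorem rot7_10 : T.rot 7 [12, 7, 12] (sel (ones 306936) ip7 10) = true := by decide +kernel

theorem rot7_10r : band (Rule.ok (2 * 12) EX RL ⟨7 :: [12, 7, 12], [], 55, false⟩) (lall (memL L) [12, 7, 12]) = true := by decide +kernel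

theorem rot7_11 : T.rot 7 [6, 7, 6, 7, 6] (sel (ones 306936) ip7 11) = true := by decide +kernel

theorem rot7_11r : band (Rule.ok (2 * 12) EX RL ⟨7 :: [6, 7, 6, 7, 6], [], 45, true⟩) (lall (memL L) [6, 7, 6, 7, 6]) = true := by decide +kernel

theorem rot7_12 : T.rot 7 [10, 7, 10, 7, 10] (sel (ones 306936) ip7 12) = true := by decide +kernel

theorem rot7_12r : band (Rule.ok (2 * 12) EX RL ⟨7 :: [10, 7, 10, 7, 10], [], 53, false⟩) (lall (memL L) [10, 7, 10, 7, 10]) = true := by decide +kernel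

theorem rot7_13 : T.rot 7 [6, 5, 4, 11, 12, 1, 2, 3, 4, 16, 9, 8, 4, 10] (sel (ones 306936) ip7 13) = true := by decide +kernel

theorem rot7_13r : band (Rule.ok (2 * 12) EX RL ⟨7 :: [6, 5, 4, 11, 12, 1, 2, 3, 4, 16, 9, 8, 4, 10], [], 68, false⟩) (lall (memL L) [6, 5, 4, 11, 12, 1, 2, 3, 4, 16, 9, 8, 4, 10]) = true := by decide +kernel

theorem rot7_14 : T.rot 7 [10, 4, 8, 9, 15, 4, 3, 2, 1, 12, 11, 4, 5, 6] (sel (ones 306936) ip7 14) = true := by decide +kernel

theorem rot7_14r : band (Rule.ok (2 * 12) EX RL ⟨7 :: [10, 4, 8, 9, 15, 4, 3, 2, 1, 12, 11, 4, 5, 6], [], 68, false⟩) (lall (memL L) [10, 4, 8, 9, 15, 4, 3, 2, 1, 12, 11, 4, 5, 6]) = true := by decide +kernel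

theorem cov7 : T.cover 7 [(sel (ones 306936) ip7 1), (sel (ones 306936) ip7 2), (sel (ones 306936) ip7 3), (sel (ones 306936) ip7 4), (sel (ones 306936) ip7 5), (sel (ones 306936) ip7 6), (sel (ones 306936) ip7 7), (sel (ones 306936) ip7 8), (sel (ones 306936) ip7 9), (sel (ones 306936) ip7 10), (sel (ones 306936) ip7 11), (sel (ones 306936) ip7 12), (sel (ones 306936) ip7 13), (sel (ones 306936) ip7 14), 1] = true := by decide +kernel

theorem tl7 : T.treeLt 19 7 = true := by decide +kernel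

theorem rot8_1 : T.rot 8 [8] (sel (ones 306936) ip8 1) = true := by decide +kernel

theorem rot8_1r : band (Rule.ok (2 * 12) EX RL ⟨8 :: [8], [], 68, false⟩) (lall (memL L) [8]) = true := by decide +kernel

theorem rot8_2 : T.rot 8 [1, 8, 1] (sel (ones 306936) ip8 2) = true := by decide +kernel

theorem rot8_2r : band (Rule.ok (2 * 12) EX RL ⟨8 :: [1, 8, 1], [], 6, true⟩) (lall (memL L) [1, 8, 1]) = true := by decide +kernel

theorem rot8_3 : T.rot 8 [2, 8, 2] (sel (ones 306936) ip8 3) = true := by decide +kernel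

theorem rot8_3r : band (Rule.ok (2 * 12) EX RL ⟨8 :: [2, 8, 2], [], 16, true⟩) (lall (memL L) [2, 8, 2]) = true := by decide +kernel

theorem rot8_4 : T.rot 8 [3, 8, 3] (sel (ones 306936) ip8 4) = true := by decide +kernel

theorem rot8_4r : band (Rule.ok (2 * 12) EX RL ⟨8 :: [3, 8, 3], [], 25, true⟩) (lall (memL L) [3, 8, 3]) = true := by decide +kernel

theorem rot8_5 : T.rot 8 [5, 8, 5] (sel (ones 306936) ip8 5) = true := by decide +kernel

theorem rot8_5r : band (Rule.ok (2 * 12) EX RL ⟨8 :: [5, 8, 5], [], 40, true⟩) (lall (memL L) [5, 8, 5]) = true := by decide +kernel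

theorem rot8_6 : T.rot 8 [6, 8, 6] (sel (ones 306936) ip8 6) = true := by decide +kernel

theorem rot8_6r : band (Rule.ok (2 * 12) EX RL ⟨8 :: [6, 8, 6], [], 46, true⟩) (lall (memL L) [6, 8, 6]) = true := by decide +kernel

theorem rot8_7 : T.rot 8 [7, 8, 7] (sel (ones 306936) ip8 7) = true := by decide +kernel

theorem rot8_7r : band (Rule.ok (2 * 12) EX RL ⟨8 :: [7, 8, 7], [], 51, true⟩) (lall (memL L) [7, 8, 7]) = true := by decide +kernel

theorem rot8_8 : T.rot 8 [10, 8, 10] (sel (ones 306936) ip8 8) = true := by decide +kernel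

theorem rot8_8r : band (Rule.ok (2 * 12) EX RL ⟨8 :: [10, 8, 10], [], 57, false⟩) (lall (memL L) [10, 8, 10]) = true := by decide +kernel

theorem rot8_9 : T.rot 8 [11, 8, 11] (sel (ones 306936) ip8 9) = true := by decide +kernel

theorem rot8_9r : band (Rule.ok (2 * 12) EX RL ⟨8 :: [11, 8, 11], [], 58, false⟩) (lall (memL L) [11, 8, 11]) = true := by decide +kernel

theorem rot8_10 : T.rot 8 [12, 8, 12] (sel (ones 306936) ip8 10) = true := by decide +kernel

theorem rot8_10r : band (Rule.ok (2 * 12) EX RL ⟨8 :: [12, 8, 12], [], 59, false⟩) (lall (memL L) [12, 8, 12]) = true := by decide +kernel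

theorem rot8_11 : T.rot 8 [4, 8, 4, 8, 4] (sel (ones 306936) ip8 11) = true := by decide +kernel

theorem rot8_11r : band (Rule.ok (2 * 12) EX RL ⟨8 :: [4, 8, 4, 8, 4], [], 33, true⟩) (lall (memL L) [4, 8, 4, 8, 4]) = true := by decide +kernel

theorem rot8_12 : T.rot 8 [9, 8, 9, 8, 9] (sel (ones 306936) ip8 12) = true := by decide +kernel

theorem rot8_12r : band (Rule.ok (2 * 12) EX RL ⟨8 :: [9, 8, 9, 8, 9], [], 56, false⟩) (lall (memL L) [9, 8, 9, 8, 9]) = true := by decide +kernel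

theorem rot8_13 : T.rot 8 [6, 5, 4, 3, 2, 1, 14] (sel (ones 306936) ip8 13) = true := by decide +kernel

theorem rot8_13r : band (Rule.ok (2 * 12) EX RL ⟨8 :: [6, 5, 4, 3, 2, 1, 14], [], 68, false⟩) (lall (memL L) [6, 5, 4, 3, 2, 1, 14]) = true := by decide +kernel

theorem rot8_14 : T.rot 8 [13, 1, 2, 3, 4, 5, 6] (sel (ones 306936) ip8 14) = true := by decide +kernel

theorem rot8_14r : band (Rule.ok (2 * 12) EX RL ⟨8 :: [13, 1, 2, 3, 4, 5, 6], [], 68, false⟩) (lall (memL L) [13, 1, 2, 3, 4, 5, 6]) = true := by decide +kernel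

theorem rot8_15 : T.rot 8 [4, 10, 7, 6, 5, 4, 11, 12, 1, 2, 3, 4, 16, 9] (sel (ones 306936) ip8 15) = true := by decide +kernel

theorem rot8_15r : band (Rule.ok (2 * 12) EX RL ⟨8 :: [4, 10, 7, 6, 5, 4, 11, 12, 1, 2, 3, 4, 16, 9], [], 68, false⟩) (lall (memL L) [4, 10, 7, 6, 5, 4, 11, 12, 1, 2, 3, 4, 16, 9]) = true := by decide +kernel

theorem rot8_16 : T.rot 8 [9, 15, 4, 3, 2, 1, 12, 11, 4, 5, 6, 7, 10, 4] (sel (ones 306936) ip8 16) = true := by decide +kernel

theorem rot8_16r : band (Rule.ok (2 * 12) EX RL ⟨8 :: [9, 15, 4, 3, 2, 1, 12, 11, 4, 5, 6, 7, 10, 4], [], 68, false⟩) (lall (memL L) [9, 15, 4, 3, 2, 1, 12, 11, 4, 5, 6, 7, 10, 4]) = true := by decide +kernel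

theorem cov8 : T.cover 8 [(sel (ones 306936) ip8 1), (sel (ones 306936) ip8 2), (sel (ones 306936) ip8 3), (sel (ones 306936) ip8 4), (sel (ones 306936) ip8 5), (sel (ones 306936) ip8 6), (sel (ones 306936) ip8 7), (sel (ones 306936) ip8 8), (sel (ones 306936) ip8 9), (sel (ones 306936) ip8 10), (sel (ones 306936) ip8 11), (sel (ones 306936) ip8 12), (sel (ones 306936) ip8 13), (sel (ones 306936) ip8 14), (sel (ones 306936) ip8 15), (sel (ones 306936) ip8 16), 1] = true := by decide +kernel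

end Cfsg.Agent.Spor.Fi306936
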