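import Cfsg.Agent.Spor.Fi306936.T

set_option autoImplicit false
set_option maxRecDepth 100000000
set_option Elab.async false

namespace Cfsg.Agent.Spor.Fi306936

theorem tl8 : T.treeLt 19 8 = true := by decide +kernel

theorem rot9_1 : T.rot 9 [9] (sel (ones 306936) ip9 1) = true := by decide +kernel

theorem rot9_1r : band (Rule.ok (2 * 12) EX RL ⟨9 :: [9], [], 68, false⟩) (lall (memL L) [9]) = true := by decide +kernel

theorem rot9_2 : T.rot 9 [1, 9, 1] (sel (ones 306936) ip9 2) = true := by decide +kernel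

theorem rot9_2r : band (Rule.ok (2 * 12) EX RL ⟨9 :: [1, 9, 1], [], 7, true⟩) (lall (memL L) [1, 9, 1]) = true := by decide +kernel

theorem rot9_3 : T.rot 9 [2, 9, 2] (sel (ones 306936) ip9 3) = true := by decide +kernel

theorem rot9_3r : band (Rule.ok (2 * 12) EX RL ⟨9 :: [2, 9, 2], [], 17, true⟩) (lall (memL L) [2, 9, 2]) = true := by decide +kernel

theorem rot9_4 : T.rot 9 [3, 9, 3] (sel (ones 306936) ip9 4) = true := by decide +kernel

theorem rot9_4r : band (Rule.ok (2 * 12) EX RL ⟨9 :: [3, 9, 3], [], 26, true⟩) (lall (memL L) [3, 9, 3]) = true := by decide +kernel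

theorem rot9_5 : T.rot 9 [4, 9, 4] (sel (ones 306936) ip9 5) = true := by decide +kernel

theorem rot9_5r : band (Rule.ok (2 * 12) EX RL ⟨9 :: [4, 9, 4], [], 34, true⟩) (lall (memL L) [4, 9, 4]) = true := by decide +kernel

theorem rot9_6 : T.rot 9 [5, 9, 5] (sel (ones 306936) ip9 6) = true := by decide +kernel

theorem rot9_6r : band (Rule.ok (2 * 12) EX RL ⟨9 :: [5, 9, 5], [], 41, true⟩) (lall (memL L) [5, 9, 5]) = true := by decide +kernel

theorem rot9_7 : T.rot 9 [6, 9, 6] (sel (ones 306936) ip9 7) = true := by decide +kernel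

theorem rot9_7r : band (Rule.ok (2 * 12) EX RL ⟨9 :: [6, 9, 6], [], 47, true⟩) (lall (memL L) [6, 9, 6]) = true := by decide +kernel

theorem rot9_8 : T.rot 9 [7, 9, 7] (sel (ones 306936) ip9 8) = true := by decide +kernel

theorem rot9_8r : band (Rule.ok (2 * 12) EX RL ⟨9 :: [7, 9, 7], [], 52, true⟩) (lall (memL L) [7, 9, 7]) = true := by decide +kernel

theorem rot9_9 : T.rot 9 [10, 9, 10] (sel (ones 306936) ip9 9) = true := by decide +kernel

theorem rot9_9r : band (Rule.ok (2 * 12) EX RL ⟨9 :: [10, 9, 10], [], 60, false⟩) (lall (memL L) [10, 9, 10]) = true := by decide +kernel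

theorem rot9_10 : T.rot 9 [11, 9, 11] (sel (ones 306936) ip9 10) = true := by decide +kernel

theorem rot9_10r : band (Rule.ok (2 * 12) EX RL ⟨9 :: [11, 9, 11], [], 61, false⟩) (lall (memL L) [11, 9, 11]) = true := by decide +kernel

theorem rot9_11 : T.rot 9 [12, 9, 12] (sel (ones 306936) ip9 11) = true := by decide +kernel

theorem rot9_11r : band (Rule.ok (2 * 12) EX RL ⟨9 :: [12, 9, 12], [], 62, false⟩) (lall (memL L) [12, 9, 12]) = true := by decide +kernel

theorem rot9_12 : T.rot 9 [8, 9, 8, 9, 8] (sel (ones 306936) ip9 12) = true := by decide +kernel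

theorem rot9_12r : band (Rule.ok (2 * 12) EX RL ⟨9 :: [8, 9, 8, 9, 8], [], 56, true⟩) (lall (memL L) [8, 9, 8, 9, 8]) = true := by decide +kernel

theorem rot9_13 : T.rot 9 [8, 4, 10, 7, 6, 5, 4, 11, 12, 1, 2, 3, 4, 16] (sel (ones 306936) ip9 13) = true := by decide +kernel

theorem rot9_13r : band (Rule.ok (2 * 12) EX RL ⟨9 :: [8, 4, 10, 7, 6, 5, 4, 11, 12, 1, 2, 3, 4, 16], [], 68, false⟩) (lall (memL L) [8, 4, 10, 7, 6, 5, 4, 11, 12, 1, 2, 3, 4, 16]) = true := by decide +kernel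

theorem rot9_14 : T.rot 9 [15, 4, 3, 2, 1, 12, 11, 4, 5, 6, 7, 10, 4, 8] (sel (ones 306936) ip9 14) = true := by decide +kernel

theorem rot9_14r : band (Rule.ok (2 * 12) EX RL ⟨9 :: [15, 4, 3, 2, 1, 12, 11, 4, 5, 6, 7, 10, 4, 8], [], 68, false⟩) (lall (memL L) [15, 4, 3, 2, 1, 12, 11, 4, 5, 6, 7, 10, 4, 8]) = true := by decide +kernel

theorem cov9 : T.cover 9 [(sel (ones 306936) ip9 1), (sel (ones 306936) ip9 2), (sel (ones 306936) ip9 3), (sel (ones 306936) ip9 4), (sel (ones 306936) ip9 5), (sel (ones 306936) ip9 6), (sel (ones 306936) ip9 7), (sel (ones 306936) ip9 8), (sel (ones 306936) ip9 9), (sel (ones 306936) ip9 10), (sel (ones 306936) ip9 11), (sel (ones 306936) ip9 12), (sel (ones 306936) ip9 13), (sel (ones 306936) ip9 14), 1] = true := by decide +kernel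

theorem tl9 : T.treeLt 19 9 = true := by decide +kernel

theorem rot10_1 : T.rot 10 [10] (sel (ones 306936) ip10 1) = true := by decide +kernel

theorem rot10_1r : band (Rule.ok (2 * 12) EX RL ⟨10 :: [10], [], 68, false⟩) (lall (memL L) [10]) = true := by decide +kernel

theorem rot10_2 : T.rot 10 [1, 10, 1] (sel (ones 306936) ip10 2) = true := by decide +kernel

theorem rot10_2r : band (Rule.ok (2 * 12) EX RL ⟨10 :: [1, 10, 1], [], 8, true⟩) (lall (memL L) [1, 10, 1]) = true := by decide +kernel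

theorem rot10_3 : T.rot 10 [2, 10, 2] (sel (ones 306936) ip10 3) = true := by decide +kernel

theorem rot10_3r : band (Rule.ok (2 * 12) EX RL ⟨10 :: [2, 10, 2], [], 18, true⟩) (lall (memL L) [2, 10, 2]) = true := by decide +kernel

theorem rot10_4 : T.rot 10 [3, 10, 3] (sel (ones 306936) ip10 4) = true := by decide +kernel

theorem rot10_4r : band (Rule.ok (2 * 12) EX RL ⟨10 :: [3, 10, 3], [], 27, true⟩) (lall (memL L) [3, 10, 3]) = true := by decide +kernel

theorem rot10_5 : T.rot 10 [4, 10, 4] (sel (ones 306936) ip10 5) = true := by decide +kernel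

theorem rot10_5r : band (Rule.ok (2 * 12) EX RL ⟨10 :: [4, 10, 4], [], 35, true⟩) (lall (memL L) [4, 10, 4]) = true := by decide +kernel

theorem rot10_6 : T.rot 10 [5, 10, 5] (sel (ones 306936) ip10 6) = true := by decide +kernel

theorem rot10_6r : band (Rule.ok (2 * 12) EX RL ⟨10 :: [5, 10, 5], [], 42, true⟩) (lall (memL L) [5, 10, 5]) = true := by decide +kernel

theorem rot10_7 : T.rot 10 [6, 10, 6] (sel (ones 306936) ip10 7) = true := by decide +kernel

theorem rot10_7r : band (Rule.ok (2 * 12) EX RL ⟨10 :: [6, 10, 6], [], 48, true⟩) (lall (memL L) [6, 10, 6]) = true := by decide +kernel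

theorem rot10_8 : T.rot 10 [8, 10, 8] (sel (ones 306936) ip10 8) = true := by decide +kernel

theorem rot10_8r : band (Rule.ok (2 * 12) EX RL ⟨10 :: [8, 10, 8], [], 57, true⟩) (lall (memL L) [8, 10, 8]) = true := by decide +kernel

theorem rot10_9 : T.rot 10 [9, 10, 9] (sel (ones 306936) ip10 9) = true := by decide +kernel

theorem rot10_9r : band (Rule.ok (2 * 12) EX RL ⟨10 :: [9, 10, 9], [], 60, true⟩) (lall (memL L) [9, 10, 9]) = true := by decide +kernel

theorem rot10_10 : T.rot 10 [11, 10, 11] (sel (ones 306936) ip10 10) = true := by decide +kernel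

theorem rot10_10r : band (Rule.ok (2 * 12) EX RL ⟨10 :: [11, 10, 11], [], 63, false⟩) (lall (memL L) [11, 10, 11]) = true := by decide +kernel

theorem rot10_11 : T.rot 10 [12, 10, 12] (sel (ones 306936) ip10 11) = true := by decide +kernel

theorem rot10_11r : band (Rule.ok (2 * 12) EX RL ⟨10 :: [12, 10, 12], [], 64, false⟩) (lall (memL L) [12, 10, 12]) = true := by decide +kernel

theorem rot10_12 : T.rot 10 [7, 10, 7, 10, 7] (sel (ones 306936) ip10 12) = true := by decide +kernel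

theorem rot10_12r : band (Rule.ok (2 * 12) EX RL ⟨10 :: [7, 10, 7, 10, 7], [], 53, true⟩) (lall (memL L) [7, 10, 7, 10, 7]) = true := by decide +kernel

theorem rot10_13 : T.rot 10 [7, 6, 5, 4, 11, 12, 1, 2, 3, 4, 16, 9, 8, 4] (sel (ones 306936) ip10 13) = true := by decide +kernel

theorem rot10_13r : band (Rule.ok (2 * 12) EX RL ⟨10 :: [7, 6, 5, 4, 11, 12, 1, 2, 3, 4, 16, 9, 8, 4], [], 68, false⟩) (lall (memL L) [7, 6, 5, 4, 11, 12, 1, 2, 3, 4, 16, 9, 8, 4]) = true := by decide +kernel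

theorem rot10_14 : T.rot 10 [4, 8, 9, 15, 4, 3, 2, 1, 12, 11, 4, 5, 6, 7] (sel (ones 306936) ip10 14) = true := by decide +kernel

theorem rot10_14r : band (Rule.ok (2 * 12) EX RL ⟨10 :: [4, 8, 9, 15, 4, 3, 2, 1, 12, 11, 4, 5, 6, 7], [], 68, false⟩) (lall (memL L) [4, 8, 9, 15, 4, 3, 2, 1, 12, 11, 4, 5, 6, 7]) = true := by decide +kernel

theorem cov10 : T.cover 10 [(sel (ones 306936) ip10 1), (sel (ones 306936) ip10 2), (sel (ones 306936) ip10 3), (sel (ones 306936) ip10 4), (sel (ones 306936) ip10 5), (sel (ones 306936) ip10 6), (sel (ones 306936) ip10 7), (sel (ones 306936) ip10 8), (sel (ones 306936) ip10 9), (sel (ones 306936) ip10 10), (sel (ones 306936) ip10 11), (sel (ones 306936) ip10 12), (sel (ones 306936) ip10 13), (sel (ones 306936) ip10 14), 1] = true := by decide +kernel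

theorem tl10 : T.treeLt 19 10 = true := by decide +kernel

theorem rot11_1 : T.rot 11 [11] (sel (ones 306936) ip11 1) = true := by decide +kernel

theorem rot11_1r : band (Rule.ok (2 * 12) EX RL ⟨11 :: [11], [], 68, false⟩) (lall (memL L) [11]) = true := by decide +kernel

theorem rot11_2 : T.rot 11 [1, 11, 1] (sel (ones 306936) ip11 2) = true := by decide +kernel

theorem rot11_2r : band (Rule.ok (2 * 12) EX RL ⟨11 :: [1, 11, 1], [], 9, true⟩) (lall (memL L) [1, 11, 1]) = true := by decide +kernel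

theorem rot11_3 : T.rot 11 [2, 11, 2] (sel (ones 306936) ip11 3) = true := by decide +kernel

theorem rot11_3r : band (Rule.ok (2 * 12) EX RL ⟨11 :: [2, 11, 2], [], 19, true⟩) (lall (memL L) [2, 11, 2]) = true := by decide +kernel

theorem rot11_4 : T.rot 11 [3, 11, 3] (sel (ones 306936) ip11 4) = true := by decide +kernel

theorem rot11_4r : band (Rule.ok (2 * 12) EX RL ⟨11 :: [3, 11, 3], [], 28, true⟩) (lall (memL L) [3, 11, 3]) = true := by decide +kernel

theorem rot11_5 : T.rot 11 [4, 11, 4] (sel (ones 306936) ip11 5) = true := by decide +kernel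

theorem rot11_5r : band (Rule.ok (2 * 12) EX RL ⟨11 :: [4, 11, 4], [], 36, true⟩) (lall (memL L) [4, 11, 4]) = true := by decide +kernel

theorem rot11_6 : T.rot 11 [5, 11, 5] (sel (ones 306936) ip11 6) = true := by decide +kernel

theorem rot11_6r : band (Rule.ok (2 * 12) EX RL ⟨11 :: [5, 11, 5], [], 43, true⟩) (lall (memL L) [5, 11, 5]) = true := by decide +kernel

theorem rot11_7 : T.rot 11 [6, 11, 6] (sel (ones 306936) ip11 7) = true := by decide +kernel

theorem rot11_7r : band (Rule.ok (2 * 12) EX RL ⟨11 :: [6, 11, 6], [], 49, true⟩) (lall (memL L) [6, 11, 6]) = true := by decide +kernel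

theorem rot11_8 : T.rot 11 [7, 11, 7] (sel (ones 306936) ip11 8) = true := by decide +kernel

theorem rot11_8r : band (Rule.ok (2 * 12) EX RL ⟨11 :: [7, 11, 7], [], 54, true⟩) (lall (memL L) [7, 11, 7]) = true := by decide +kernel

theorem rot11_9 : T.rot 11 [8, 11, 8] (sel (ones 306936) ip11 9) = true := by decide +kernel

theorem rot11_9r : band (Rule.ok (2 * 12) EX RL ⟨11 :: [8, 11, 8], [], 58, true⟩) (lall (memL L) [8, 11, 8]) = true := by decide +kernel

theorem rot11_10 : T.rot 11 [9, 11, 9] (sel (ones 306936) ip11 10) = true := by decide +kernel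

theorem rot11_10r : band (Rule.ok (2 * 12) EX RL ⟨11 :: [9, 11, 9], [], 61, true⟩) (lall (memL L) [9, 11, 9]) = true := by decide +kernel

theorem rot11_11 : T.rot 11 [10, 11, 10] (sel (ones 306936) ip11 11) = true := by decide +kernel

theorem rot11_11r : band (Rule.ok (2 * 12) EX RL ⟨11 :: [10, 11, 10], [], 63, true⟩) (lall (memL L) [10, 11, 10]) = true := by decide +kernel

theorem rot11_12 : T.rot 11 [12, 11, 12, 11, 12] (sel (ones 306936) ip11 12) = true := by decide +kernel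

theorem rot11_12r : band (Rule.ok (2 * 12) EX RL ⟨11 :: [12, 11, 12, 11, 12], [], 65, false⟩) (lall (memL L) [12, 11, 12, 11, 12]) = true := by decide +kernel

theorem rot11_13 : T.rot 11 [14, 14, 14, 14, 14, 14, 14, 14, 14] (sel (ones 306936) ip11 13) = true := by decide +kernel

theorem rot11_13r : band (Rule.ok (2 * 12) EX RL ⟨11 :: [14, 14, 14, 14, 14, 14, 14, 14, 14], [20], 66, true⟩) (lall (memL L) [14, 14, 14, 14, 14, 14, 14, 14, 14]) = true := by decide +kernel

theorem rot11_14 : T.rot 11 [13, 13, 13, 13, 13, 13, 13, 13, 13] (sel (ones 306936) ip11 14) = true := by decide +kernel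

theorem rot11_14r : band (Rule.ok (2 * 12) EX RL ⟨11 :: [13, 13, 13, 13, 13, 13, 13, 13, 13], [], 66, false⟩) (lall (memL L) [13, 13, 13, 13, 13, 13, 13, 13, 13]) = true := by decide +kernel

theorem rot11_15 : T.rot 11 [12, 1, 2, 3, 4, 16, 9, 8, 4, 10, 7, 6, 5, 4] (sel (ones 306936) ip11 15) = true := by decide +kernel

theorem rot11_15r : band (Rule.ok (2 * 12) EX RL ⟨11 :: [12, 1, 2, 3, 4, 16, 9, 8, 4, 10, 7, 6, 5, 4], [], 68, false⟩) (lall (memL L) [12, 1, 2, 3, 4, 16, 9, 8, 4, 10, 7, 6, 5, 4]) = true := by decide +kernel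

theorem rot11_16 : T.rot 11 [4, 5, 6, 7, 10, 4, 8, 9, 15, 4, 3, 2, 1, 12] (sel (ones 306936) ip11 16) = true := by decide +kernel

theorem rot11_16r : band (Rule.ok (2 * 12) EX RL ⟨11 :: [4, 5, 6, 7, 10, 4, 8, 9, 15, 4, 3, 2, 1, 12], [], 68, false⟩) (lall (memL L) [4, 5, 6, 7, 10, 4, 8, 9, 15, 4, 3, 2, 1, 12]) = true := by decide +kernel

theorem cov11 : T.cover 11 [(sel (ones 306936) ip11 1), (sel (ones 306936) ip11 2), (sel (ones 306936) ip11 3), (sel (ones 306936) ip11 4), (sel (ones 306936) ip11 5), (sel (ones 306936) ip11 6), (sel (ones 306936) ip11 7), (sel (ones 306936) ip11 8), (sel (ones 306936) ip11 9), (sel (ones 306936) ip11 10), (sel (ones 306936) ip11 11), (sel (ones 306936) ip11 12), (sel (ones 306936) ip11 13), (sel (ones 306936) ip11 14), (sel (ones 306936) ip11 15), (sel (ones 306936) ip11 16), 1] = true := by decide +kernel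

theorem tl11 : T.treeLt 19 11 = true := by decide +kernel

theorem rot12_1 : T.rot 12 [12] (sel (ones 306936) ip12 1) = true := by decide +kernel

theorem rot12_1r : band (Rule.ok (2 * 12) EX RL ⟨12 :: [12], [], 68, false⟩) (lall (memL L) [12]) = true := by decide +kernel

theorem rot12_2 : T.rot 12 [2, 12, 2] (sel (ones 306936) ip12 2) = true := by decide +kernel

theorem rot12_2r : band (Rule.ok (2 * 12) EX RL ⟨12 :: [2, 12, 2], [], 20, true⟩) (lall (memL L) [2, 12, 2]) = true := by decide +kernel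

theorem rot12_3 : T.rot 12 [3, 12, 3] (sel (ones 306936) ip12 3) = true := by decide +kernel

theorem rot12_3r : band (Rule.ok (2 * 12) EX RL ⟨12 :: [3, 12, 3], [], 29, true⟩) (lall (memL L) [3, 12, 3]) = true := by decide +kernel

theorem rot12_4 : T.rot 12 [4, 12, 4] (sel (ones 306936) ip12 4) = true := by decide +kernel

theorem rot12_4r : band (Rule.ok (2 * 12) EX RL ⟨12 :: [4, 12, 4], [], 37, true⟩) (lall (memL L) [4, 12, 4]) = true := by decide +kernel

theorem rot12_5 : T.rot 12 [5, 12, 5] (sel (ones 306936) ip12 5) = true := by decide +kernel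

theorem rot12_5r : band (Rule.ok (2 * 12) EX RL ⟨12 :: [5, 12, 5], [], 44, true⟩) (lall (memL L) [5, 12, 5]) = true := by decide +kernel

theorem rot12_6 : T.rot 12 [6, 12, 6] (sel (ones 306936) ip12 6) = true := by decide +kernel

theorem rot12_6r : band (Rule.ok (2 * 12) EX RL ⟨12 :: [6, 12, 6], [], 50, true⟩) (lall (memL L) [6, 12, 6]) = true := by decide +kernel

theorem rot12_7 : T.rot 12 [7, 12, 7] (sel (ones 306936) ip12 7) = true := by decide +kernel

theorem rot12_7r : band (Rule.ok (2 * 12) EX RL ⟨12 :: [7, 12, 7], [], 55, true⟩) (lall (memL L) [7, 12, 7]) = true := by decide +kernel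

theorem rot12_8 : T.rot 12 [8, 12, 8] (sel (ones 306936) ip12 8) = true := by decide +kernel

theorem rot12_8r : band (Rule.ok (2 * 12) EX RL ⟨12 :: [8, 12, 8], [], 59, true⟩) (lall (memL L) [8, 12, 8]) = true := by decide +kernel

theorem rot12_9 : T.rot 12 [9, 12, 9] (sel (ones 306936) ip12 9) = true := by decide +kernel

theorem rot12_9r : band (Rule.ok (2 * 12) EX RL ⟨12 :: [9, 12, 9], [], 62, true⟩) (lall (memL L) [9, 12, 9]) = true := by decide +kernel

theorem rot12_10 : T.rot 12 [10, 12, 10] (sel (ones 306936) ip12 10) = true := by decide +kernel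

theorem rot12_10r : band (Rule.ok (2 * 12) EX RL ⟨12 :: [10, 12, 10], [], 64, true⟩) (lall (memL L) [10, 12, 10]) = true := by decide +kernel

theorem rot12_11 : T.rot 12 [1, 12, 1, 12, 1] (sel (ones 306936) ip12 11) = true := by decide +kernel

theorem rot12_11r : band (Rule.ok (2 * 12) EX RL ⟨12 :: [1, 12, 1, 12, 1], [], 10, true⟩) (lall (memL L) [1, 12, 1, 12, 1]) = true := by decide +kernel

theorem rot12_12 : T.rot 12 [11, 12, 11, 12, 11] (sel (ones 306936) ip12 12) = true := by decide +kernel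

theorem rot12_12r : band (Rule.ok (2 * 12) EX RL ⟨12 :: [11, 12, 11, 12, 11], [], 65, true⟩) (lall (memL L) [11, 12, 11, 12, 11]) = true := by decide +kernel

theorem rot12_13 : T.rot 12 [1, 2, 3, 4, 16, 9, 8, 4, 10, 7, 6, 5, 4, 11] (sel (ones 306936) ip12 13) = true := by decide +kernel

theorem rot12_13r : band (Rule.ok (2 * 12) EX RL ⟨12 :: [1, 2, 3, 4, 16, 9, 8, 4, 10, 7, 6, 5, 4, 11], [], 68, false⟩) (lall (memL L) [1, 2, 3, 4, 16, 9, 8, 4, 10, 7, 6, 5, 4, 11]) = true := by decide +kernel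

theorem rot12_14 : T.rot 12 [11, 4, 5, 6, 7, 10, 4, 8, 9, 15, 4, 3, 2, 1] (sel (ones 306936) ip12 14) = true := by decide +kernel

theorem rot12_14r : band (Rule.ok (2 * 12) EX RL ⟨12 :: [11, 4, 5, 6, 7, 10, 4, 8, 9, 15, 4, 3, 2, 1], [], 68, false⟩) (lall (memL L) [11, 4, 5, 6, 7, 10, 4, 8, 9, 15, 4, 3, 2, 1]) = true := by decide +kernel

theorem cov12 : T.cover 12 [(sel (ones 306936) ip12 1), (sel (ones 306936) ip12 2), (sel (ones 306936) ip12 3), (sel (ones 306936) ip12 4), (sel (ones 306936) ip12 5), (sel (ones 306936) ip12 6), (sel (ones 306936) ip12 7), (sel (ones 306936) ip12 8), (sel (ones 306936) ip12 9), (sel (ones 306936) ip12 10), (sel (ones 306936) ip12 11), (sel (ones 306936) ip12 12), (sel (ones 306936) ip12 13), (sel (ones 306936) ip12 14)] = true := by decide +kernel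

theorem tl12 : T.treeLt 19 12 = true := by decide +kernel

theorem rot13_1 : T.rot 13 [1, 2, 3, 4, 5, 6, 8] (sel (ones 306936) ip13 1) = true := by decide +kernel

theorem rot13_1r : band (Rule.ok (2 * 12) EX RL ⟨13 :: [1, 2, 3, 4, 5, 6, 8], [], 68, false⟩) (lall (memL L) [1, 2, 3, 4, 5, 6, 8]) = true := by decide +kernel

theorem rot13_2 : T.rot 13 [13, 13, 13, 13, 13, 13, 13, 13, 11] (sel (ones 306936) ip13 2) = true := by decide +kernel

theorem rot13_2r : band (Rule.ok (2 * 12) EX RL ⟨13 :: [13, 13, 13, 13, 13, 13, 13, 13, 11], [20], 66, false⟩) (lall (memL L) [13, 13, 13, 13, 13, 13, 13, 13, 11]) = true := by decide +kernel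

theorem rot13_3 : T.rot 13 [13, 13, 13, 13, 13, 13, 13, 11, 13] (sel (ones 306936) ip13 3) = true := by decide +kernel

theorem rot13_3r : band (Rule.ok (2 * 12) EX RL ⟨13 :: [13, 13, 13, 13, 13, 13, 13, 11, 13], [20, 14, 10, 8, 6, 4, 2, 0], 66, false⟩) (lall (memL L) [13, 13, 13, 13, 13, 13, 13, 11, 13]) = true := by decide +kernel

theorem rot13_4 : T.rot 13 [13, 13, 13, 13, 13, 13, 11, 13, 13] (sel (ones 306936) ip13 4) = true := by decide +kernel

theorem rot13_4r : band (Rule.ok (2 * 12) EX RL ⟨13 :: [13, 13, 13, 13, 13, 13, 11, 13, 13], [20, 14, 10, 8, 6, 4, 2, 0, 14, 10, 8, 6, 4, 2, 0], 66, false⟩) (lall (memL L) [13, 13, 13, 13, 13, 13, 11, 13, 13]) = true := by decide +kernel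

theorem rot13_5 : T.rot 13 [13, 13, 13, 13, 13, 11, 13, 13, 13] (sel (ones 306936) ip13 5) = true := by decide +kernel

theorem rot13_5r : band (Rule.ok (2 * 12) EX RL ⟨13 :: [13, 13, 13, 13, 13, 11, 13, 13, 13], [20, 14, 10, 8, 6, 4, 2, 0, 14, 10, 8, 6, 4, 2, 0, 14, 10, 8, 6, 4, 2, 0], 66, false⟩) (lall (memL L) [13, 13, 13, 13, 13, 11, 13, 13, 13]) = true := by decide +kernel

theorem rot13_6 : T.rot 13 [13, 13, 13, 13, 11, 13, 13, 13, 13] (sel (ones 306936) ip13 6) = true := by decide +kernel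

theorem rot13_6r : band (Rule.ok (2 * 12) EX RL ⟨13 :: [13, 13, 13, 13, 11, 13, 13, 13, 13], [20, 14, 10, 8, 6, 4, 2, 0, 14, 10, 8, 6, 4, 2, 0, 14, 10, 8, 6, 4, 2, 0, 14, 10, 8, 6, 4, 2, 0], 66, false⟩) (lall (memL L) [13, 13, 13, 13, 11, 13, 13, 13, 13]) = true := by decide +kernel

theorem rot13_7 : T.rot 13 [13, 13, 13, 11, 13, 13, 13, 13, 13] (sel (ones 306936) ip13 7) = true := by decide +kernel

theorem rot13_7r : band (Rule.ok (2 * 12) EX RL ⟨13 :: [13, 13, 13, 11, 13, 13, 13, 13, 13], [0, 2, 4, 6, 8, 10, 14, 0, 2, 4, 6, 8, 10, 14, 0, 2, 4, 6, 8, 10, 14, 0, 2, 4, 6, 8, 10, 14], 66, false⟩) (lall (memL L) [13, 13, 13, 11, 13, 13, 13, 13, 13]) = true := by decide +kernel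

theorem rot13_8 : T.rot 13 [13, 13, 11, 13, 13, 13, 13, 13, 13] (sel (ones 306936) ip13 8) = true := by decide +kernel

theorem rot13_8r : band (Rule.ok (2 * 12) EX RL ⟨13 :: [13, 13, 11, 13, 13, 13, 13, 13, 13], [0, 2, 4, 6, 8, 10, 14, 0, 2, 4, 6, 8, 10, 14, 0, 2, 4, 6, 8, 10, 14], 66, false⟩) (lall (memL L) [13, 13, 11, 13, 13, 13, 13, 13, 13]) = true := by decide +kernel

theorem rot13_9 : T.rot 13 [13, 11, 13, 13, 13, 13, 13, 13, 13] (sel (ones 306936) ip13 9) = true := by decide +kernel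

theorem rot13_9r : band (Rule.ok (2 * 12) EX RL ⟨13 :: [13, 11, 13, 13, 13, 13, 13, 13, 13], [0, 2, 4, 6, 8, 10, 14, 0, 2, 4, 6, 8, 10, 14], 66, false⟩) (lall (memL L) [13, 11, 13, 13, 13, 13, 13, 13, 13]) = true := by decide +kernel

theorem rot13_10 : T.rot 13 [11, 13, 13, 13, 13, 13, 13, 13, 13] (sel (ones 306936) ip13 10) = true := by decide +kernel

theorem rot13_10r : band (Rule.ok (2 * 12) EX RL ⟨13 :: [11, 13, 13, 13, 13, 13, 13, 13, 13], [0, 2, 4, 6, 8, 10, 14], 66, false⟩) (lall (memL L) [11, 13, 13, 13, 13, 13, 13, 13, 13]) = true := by decide +kernel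

theorem cov13 : T.cover 13 [(sel (ones 306936) ip13 1), (sel (ones 306936) ip13 2), (sel (ones 306936) ip13 3), (sel (ones 306936) ip13 4), (sel (ones 306936) ip13 5), (sel (ones 306936) ip13 6), (sel (ones 306936) ip13 7), (sel (ones 306936) ip13 8), (sel (ones 306936) ip13 9), (sel (ones 306936) ip13 10)] = true := by decide +kernel

theorem tl13 : Nat.beq (T.let 13).tt 0 = true := by decide +kernel

theorem rot14_1 : T.rot 14 [8, 6, 5, 4, 3, 2, 1] (sel (ones 306936) ip14 1) = true := by decide +kernel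

theorem rot14_1r : band (Rule.ok (2 * 12) EX RL ⟨14 :: [8, 6, 5, 4, 3, 2, 1], [], 68, false⟩) (lall (memL L) [8, 6, 5, 4, 3, 2, 1]) = true := by decide +kernel

theorem rot14_2 : T.rot 14 [14, 14, 14, 14, 14, 14, 14, 14, 11] (sel (ones 306936) ip14 2) = true := by decide +kernel

theorem rot14_2r : band (Rule.ok (2 * 12) EX RL ⟨14 :: [14, 14, 14, 14, 14, 14, 14, 14, 11], [], 66, true⟩) (lall (memL L) [14, 14, 14, 14, 14, 14, 14, 14, 11]) = true := by decide +kernel

theorem rot14_3 : T.rot 14 [14, 14, 14, 14, 14, 14, 14, 11, 14] (sel (ones 306936) ip14 3) = true := by decide +kernel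

theorem rot14_3r : band (Rule.ok (2 * 12) EX RL ⟨14 :: [14, 14, 14, 14, 14, 14, 14, 11, 14], [0, 2, 4, 6, 8, 10, 14], 66, true⟩) (lall (memL L) [14, 14, 14, 14, 14, 14, 14, 11, 14]) = true := by decide +kernel

theorem rot14_4 : T.rot 14 [14, 14, 14, 14, 14, 14, 11, 14, 14] (sel (ones 306936) ip14 4) = true := by decide +kernel

theorem rot14_4r : band (Rule.ok (2 * 12) EX RL ⟨14 :: [14, 14, 14, 14, 14, 14, 11, 14, 14], [0, 2, 4, 6, 8, 10, 14, 0, 2, 4, 6, 8, 10, 14], 66, true⟩) (lall (memL L) [14, 14, 14, 14, 14, 14, 11, 14, 14]) = true := by decide +kernel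

theorem rot14_5 : T.rot 14 [14, 14, 14, 14, 14, 11, 14, 14, 14] (sel (ones 306936) ip14 5) = true := by decide +kernel

theorem rot14_5r : band (Rule.ok (2 * 12) EX RL ⟨14 :: [14, 14, 14, 14, 14, 11, 14, 14, 14], [0, 2, 4, 6, 8, 10, 14, 0, 2, 4, 6, 8, 10, 14, 0, 2, 4, 6, 8, 10, 14], 66, true⟩) (lall (memL L) [14, 14, 14, 14, 14, 11, 14, 14, 14]) = true := by decide +kernel

theorem rot14_6 : T.rot 14 [14, 14, 14, 14, 11, 14, 14, 14, 14] (sel (ones 306936) ip14 6) = true := by decide +kernel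

theorem rot14_6r : band (Rule.ok (2 * 12) EX RL ⟨14 :: [14, 14, 14, 14, 11, 14, 14, 14, 14], [0, 2, 4, 6, 8, 10, 14, 0, 2, 4, 6, 8, 10, 14, 0, 2, 4, 6, 8, 10, 14, 0, 2, 4, 6, 8, 10, 14], 66, true⟩) (lall (memL L) [14, 14, 14, 14, 11, 14, 14, 14, 14]) = true := by decide +kernel

theorem rot14_7 : T.rot 14 [14, 14, 14, 11, 14, 14, 14, 14, 14] (sel (ones 306936) ip14 7) = true := by decide +kernel

theorem rot14_7r : band (Rule.ok (2 * 12) EX RL ⟨14 :: [14, 14, 14, 11, 14, 14, 14, 14, 14], [20, 14, 10, 8, 6, 4, 2, 0, 14, 10, 8, 6, 4, 2, 0, 14, 10, 8, 6, 4, 2, 0, 14, 10, 8, 6, 4, 2, 0], 66, true⟩) (lall (memL L) [14, 14, 14, 11, 14, 14, 14, 14, 14]) = true := by decide +kernel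

theorem rot14_8 : T.rot 14 [14, 14, 11, 14, 14, 14, 14, 14, 14] (sel (ones 306936) ip14 8) = true := by decide +kernel

theorem rot14_8r : band (Rule.ok (2 * 12) EX RL ⟨14 :: [14, 14, 11, 14, 14, 14, 14, 14, 14], [20, 14, 10, 8, 6, 4, 2, 0, 14, 10, 8, 6, 4, 2, 0, 14, 10, 8, 6, 4, 2, 0], 66, true⟩) (lall (memL L) [14, 14, 11, 14, 14, 14, 14, 14, 14]) = true := by decide +kernel

theorem rot14_9 : T.rot 14 [14, 11, 14, 14, 14, 14, 14, 14, 14] (sel (ones 306936) ip14 9) = true := by decide +kernel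

theorem rot14_9r : band (Rule.ok (2 * 12) EX RL ⟨14 :: [14, 11, 14, 14, 14, 14, 14, 14, 14], [20, 14, 10, 8, 6, 4, 2, 0, 14, 10, 8, 6, 4, 2, 0], 66, true⟩) (lall (memL L) [14, 11, 14, 14, 14, 14, 14, 14, 14]) = true := by decide +kernel

theorem rot14_10 : T.rot 14 [11, 14, 14, 14, 14, 14, 14, 14, 14] (sel (ones 306936) ip14 10) = true := by decide +kernel

theorem rot14_10r : band (Rule.ok (2 * 12) EX RL ⟨14 :: [11, 14, 14, 14, 14, 14, 14, 14, 14], [20, 14, 10, 8, 6, 4, 2, 0], 66, true⟩) (lall (memL L) [11, 14, 14, 14, 14, 14, 14, 14, 14]) = true := by decide +kernel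

theorem cov14 : T.cover 14 [(sel (ones 306936) ip14 1), (sel (ones 306936) ip14 2), (sel (ones 306936) ip14 3), (sel (ones 306936) ip14 4), (sel (ones 306936) ip14 5), (sel (ones 306936) ip14 6), (sel (ones 306936) ip14 7), (sel (ones 306936) ip14 8), (sel (ones 306936) ip14 9), (sel (ones 306936) ip14 10)] = true := by decide +kernel

theorem tl14 : Nat.beq (T.let 14).tt 0 = true := by decide +kernel

theorem rot15_1 : T.rot 15 [4, 3, 2, 1, 12, 11, 4, 5, 6, 7, 10, 4, 8, 9] (sel (ones 306936) ip15 1) = true := by decide +kernel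

theorem rot15_1r : band (Rule.ok (2 * 12) EX RL ⟨15 :: [4, 3, 2, 1, 12, 11, 4, 5, 6, 7, 10, 4, 8, 9], [], 68, false⟩) (lall (memL L) [4, 3, 2, 1, 12, 11, 4, 5, 6, 7, 10, 4, 8, 9]) = true := by decide +kernel

theorem rot15_2 : T.rot 15 [15, 15, 15, 15, 15, 15, 15, 15, 15, 15, 15, 15, 15, 15, 15, 15] (sel (ones 306936) ip15 2) = true := by decide +kernel

theorem rot15_2r : band (Rule.ok (2 * 12) EX RL ⟨15 :: [15, 15, 15, 15, 15, 15, 15, 15, 15, 15, 15, 15, 15, 15, 15, 15], [], 67, true⟩) (lall (memL L) [15, 15, 15, 15, 15, 15, 15, 15, 15, 15, 15, 15, 15, 15, 15, 15]) = true := by decide +kernel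

theorem cov15 : T.cover 15 [(sel (ones 306936) ip15 1), (sel (ones 306936) ip15 2)] = true := by decide +kernel

theorem tl15 : Nat.beq (T.let 15).tt 0 = true := by decide +kernel

theorem rot16_1 : T.rot 16 [9, 8, 4, 10, 7, 6, 5, 4, 11, 12, 1, 2, 3, 4] (sel (ones 306936) ip16 1) = true := by decide +kernel

theorem rot16_1r : band (Rule.ok (2 * 12) EX RL ⟨16 :: [9, 8, 4, 10, 7, 6, 5, 4, 11, 12, 1, 2, 3, 4], [], 68, false⟩) (lall (memL L) [9, 8, 4, 10, 7, 6, 5, 4, 11, 12, 1, 2, 3, 4]) = true := by decide +kernel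

theorem rot16_2 : T.rot 16 [16, 16, 16, 16, 16, 16, 16, 16, 16, 16, 16, 16, 16, 16, 16, 16] (sel (ones 306936) ip16 2) = true := by decide +kernel

theorem rot16_2r : band (Rule.ok (2 * 12) EX RL ⟨16 :: [16, 16, 16, 16, 16, 16, 16, 16, 16, 16, 16, 16, 16, 16, 16, 16], [], 67, false⟩) (lall (memL L) [16, 16, 16, 16, 16, 16, 16, 16, 16, 16, 16, 16, 16, 16, 16, 16]) = true := by decide +kernel

theorem cov16 : T.cover 16 [(sel (ones 306936) ip16 1), (sel (ones 306936) ip16 2)] = true := by decide +kernel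

theorem tl16 : Nat.beq (T.let 16).tt 0 = true := by decide +kernel

end Cfsg.Agent.Spor.Fi306936
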