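import Cfsg.Agent.Spor.Fi306936.D0
import Cfsg.Agent.Spor.Fi306936.D1
import Cfsg.Agent.Spor.Fi306936.D2
import Cfsg.Agent.Spor.Fi306936.D3
import Cfsg.Agent.Spor.Fi306936.D4
import Cfsg.Agent.Spor.Fi306936.D5
import Cfsg.Agent.Spor.Fi306936.D6
import Cfsg.Agent.Spor.Fi306936.D7
import Cfsg.Agent.Spor.Fi306936.D8
import Cfsg.Agent.Spor.Fi306936.D9
import Cfsg.Agent.Spor.Fi306936.D10
import Cfsg.Agent.Spor.Fi306936.D11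
import Cfsg.Agent.Spor.Fi306936.D12
import Cfsg.Agent.Spor.Fi306936.D13
import Cfsg.Agent.Spor.Fi306936.D14
import Cfsg.Agent.Spor.Fi306936.D15
import Cfsg.Agent.Spor.Fi306936.D16

set_option autoImplicit false
set_option maxRecDepth 100000000
noncomputable section

namespace Cfsg.Agent.Spor.Fi306936

def NT : List Net := [n0, n1, n2, n3, n4, n5, n6, n7, n8, n9, n10, n11, n12, n13]
def LT : List Let := [⟨0, false, 0, 0, []⟩, l1, l2, l3, l4, l5, l6, l7, l8, l9, l10, l11, l12, l13, l14, l15, l16]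
def T : Tab := ⟨NT, LT⟩
def EX : List (List Nat) := [[], [0], [2], [4], [6], [8], [10], [12], [14], [16], [18], [20], [22], [0, 2, 4, 6, 8, 10, 14], [14, 10, 8, 6, 4, 2, 0], [6, 4, 2, 0, 22, 20, 6, 8, 10, 12, 18, 6, 14, 16], [16, 14, 6, 18, 12, 10, 8, 6, 20, 22, 0, 2, 4, 6]]
def RL : List (List Nat) := [[0, 2, 0, 2, 0, 2], [0, 4, 0, 4], [0, 6, 0, 6], [0, 8, 0, 8], [0, 10, 0, 10], [0, 12, 0, 12], [0, 14, 0, 14], [0, 16, 0, 16], [0, 18, 0, 18], [0, 20, 0, 20], [0, 22, 0, 22, 0, 22], [2, 4, 2, 4, 2, 4], [2, 6, 2, 6], [2, 8, 2, 8], [2, 10, 2, 10], [2, 12, 2, 12], [2, 14, 2, 14], [2, 16, 2, 16], [2, 18, 2, 18], [2, 20, 2, 20], [2, 22, 2, 22], [4, 6, 4, 6, 4, 6], [4, 8, 4, 8], [4, 10, 4, 10], [4, 12, 4, 12], [4, 14, 4, 14], [4, 16, 4, 16], [4, 18, 4, 18], [4, 20, 4, 20], [4, 22, 4, 22], [6, 8, 6, 8, 6, 8], [6,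 10, 6, 10], [6, 12, 6, 12], [6, 14, 6, 14, 6, 14], [6, 16, 6, 16], [6, 18, 6, 18], [6, 20, 6, 20], [6, 22, 6, 22], [8, 10, 8, 10, 8, 10], [8, 12, 8, 12], [8, 14, 8, 14], [8, 16, 8, 16], [8, 18, 8, 18], [8, 20, 8, 20], [8, 22, 8, 22], [10, 12, 10, 12, 10, 12], [10, 14, 10, 14], [10, 16, 10, 16], [10, 18, 10, 18], [10, 20, 10, 20], [10, 22, 10, 22], [12, 14, 12, 14], [12, 16, 12, 16], [12, 18, 12, 18, 12, 18], [12, 20, 12, 20], [12, 22, 12, 22], [14, 16, 14, 16, 14, 16], [14, 18, 14, 18], [14, 20, 14, 20], [14, 22, 14, 22], [16, 18, 16, 18], [16, 20, 16, 20], [16, 22, 16, 22], [18, 20, 18, 20], [18, 22, 18, 22], [20, 22, 20, 22, 20, 22], [20, 14, 10, 8, 6, 4, 2, 0, 14, 10, 8, 6, 4, 2, 0, 14, 10, 8, 6, 4, 2, 0, 14, 10, 8, 6, 4, 2, 0, 14, 10, 8, 6, 4, 2, 0, 14, 10, 8, 6, 4, 2, 0, 14, 10, 8, 6, 4, 2, 0, 14,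 10, 8, 6, 4, 2, 0, 14, 10, 8, 6, 4, 2, 0], [6, 4, 2, 0, 22, 20, 6, 8, 10, 12, 18, 6, 14, 16, 6, 4, 2, 0, 22, 20, 6, 8, 10, 12, 18, 6, 14, 16, 6, 4, 2, 0, 22, 20, 6, 8, 10, 12, 18, 6, 14, 16, 6, 4, 2, 0, 22, 20, 6, 8, 10, 12, 18, 6, 14, 16, 6, 4, 2, 0, 22, 20, 6, 8, 10, 12, 18, 6, 14, 16, 6, 4, 2, 0, 22, 20, 6, 8, 10, 12, 18, 6, 14, 16, 6, 4, 2, 0, 22, 20, 6, 8, 10, 12, 18, 6, 14, 16, 6, 4, 2, 0, 22, 20, 6, 8, 10, 12, 18, 6, 14, 16, 6, 4, 2, 0, 22, 20, 6, 8, 10, 12, 18, 6, 14, 16, 6, 4, 2, 0, 22, 20, 6, 8, 10, 12, 18, 6, 14, 16, 6, 4, 2, 0, 22, 20, 6, 8, 10, 12, 18, 6, 14, 16, 6, 4, 2, 0, 22, 20, 6, 8, 10, 12, 18, 6, 14, 16, 6, 4, 2, 0, 22, 20, 6, 8, 10, 12, 18, 6, 14, 16, 6, 4, 2, 0, 22, 20, 6, 8, 10, 12, 18, 6, 14, 16, 6, 4, 2, 0, 22, 20, 6, 8, 10, 12, 18, 6, 14, 16, 6, 4, 2, 0, 22, 20, 6, 8, 10, 12,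 18, 6, 14, 16, 6, 4, 2, 0, 22, 20, 6, 8, 10, 12, 18, 6, 14, 16]]
def XL : List (List Nat) := []
def BW : List (List Nat) := [[0], [2], [4], [6], [8], [10], [12], [14], [16], [18], [20]]
def IV : Nat := 0xf100d0e0c0b0a09080706050403020100
def L : List Nat := [1, 2, 3, 4, 5, 6, 7, 8, 9, 10, 11, 12, 13, 14, 15, 16]
def gs : List Nat := [1, 2, 3, 4, 5, 6, 7, 8, 9, 10, 11, 12]
def base : List Nat := [1, 2, 3, 4, 5, 6, 7, 8, 9, 10, 11]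

end Cfsg.Agent.Spor.Fi306936
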